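import Cfsg.Statements.S4069
import Cfsg.Agent.H68.DihedralData
import Cfsg.Prelude.Def_Blocks
import Cfsg.Prelude.Def_BlockRank
import Cfsg.Prelude.Def_CaseTheorems
import Cfsg.Prelude.Def_Local

/-!
# Interfaces for S4069 (cyclic odd Sylow subgroups)

Each `...Stmt` below is proved in its own module; consumers take them as hypotheses.
-/

set_option autoImplicit false

open Cfsg Subgroup

namespace H76.CSy

universe u

section Basic

variable (G : Type u) [Group G]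

/-- The Sylow subgroups of odd order are cyclic. -/
def OddCyclic : Prop := ∀ p : ℕ, p.Prime → p ≠ 2 → ∀ P : Sylow p G, IsCyclic P

/-- The Sylow 2-subgroups have a cyclic subgroup of index at most two. -/
def TwoSlim : Prop :=
  ∀ S : Sylow 2 G, ∃ C : Subgroup ↥(S : Subgroup G), IsCyclic C ∧ C.index ∣ 2

/-- The conclusion of S4069. -/
def Concl : Prop :=
  ∃ G₀ : Subgroup G, G₀.Normal ∧ G₀.index ∣ 2 ∧
    ∃ X L : Subgroup ↥G₀, X.Normal ∧ L.Normal ∧ X ⊓ L = ⊥ ∧ X ⊔ L = ⊤ ∧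
      (Nat.card X).Coprime (Nat.card L) ∧
      Odd (Nat.card X) ∧ (∃ (C : Subgroup ↥X) (_ : C.Normal), IsCyclic C ∧ IsCyclic (↥X ⧸ C)) ∧
      ∃ (p : ℕ) (_ : Fact p.Prime), 5 ≤ p ∧
        (Nonempty (↥L ≃* Matrix.ProjectiveSpecialLinearGroup (Fin 2) (ZMod p)) ∨
         Nonempty (↥L ≃* Matrix.SpecialLinearGroup (Fin 2) (ZMod p)))

/-- The simple groups occurring. -/
def SimpleGoal : Prop :=
  ∃ (p : ℕ) (_ : Fact p.Prime), 5 ≤ p ∧
    Nonempty (G ≃* Matrix.ProjectiveSpecialLinearGroup (Fin 2) (ZMod p))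

/-- Proper subgroups satisfy the theorem. -/
def Below : Prop := ∀ H : Subgroup G, H ≠ ⊤ → ¬ Group.IsSolvable H → Concl ↥H

/-- All involutions are conjugate to `t`. -/
def OneClass (t : G) : Prop := ∀ s : G, orderOf s = 2 → IsConj t s

/-- The number of involutions inverting `y`. -/
noncomputable def invCount (y : G) : ℕ :=
  Nat.card {i : G // orderOf i = 2 ∧ i * y * i⁻¹ = y⁻¹}

end Basic

/-- The standing hypotheses on a minimal simple counterexample. -/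
structure Hyp (G : Type u) [Group G] [Finite G] : Prop where
  simple : IsSimpleGroup G
  nonab : ¬ IsMulCommutative G
  odd : OddCyclic G
  slim : TwoSlim G
  below : Below G

/-! ### Reduction -/

def ReduceStmt : Prop :=
  (∀ (K : Type u) [Group K] [Finite K], Hyp K → SimpleGoal K) →
    ∀ (G : Type u) [Group G] [Finite G], ¬ Group.IsSolvable G → OddCyclic G → TwoSlim G → Concl G

/-! ### The principal block at an odd prime -/

/-- `B₀(p)` for a cyclic Sylow `p`-subgroup with inertial index two. -/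
structure Triple {G : Type u} [Group G] (M : Ideal AlgInt) {p : ℕ} (P : Sylow p G) where
  lam : IrrCharacter G
  δ : ℤ
  ε : ℤ
  ζ : ((P : Subgroup G) →* ℂˣ) → IrrCharacter G
  δ_eq : δ = 1 ∨ δ = -1
  ε_eq : ε = 1 ∨ ε = -1
  lam_ne : (lam : G → ℂ) ≠ fun _ => 1
  lam_mem : lam ∈ principalBlock M G
  ζ_mem : ∀ ψ, ψ ≠ 1 → ζ ψ ∈ principalBlock M G
  ζ_ne : ∀ ψ, ψ ≠ 1 → ζ ψ ≠ lam ∧ (ζ ψ : G → ℂ) ≠ fun _ => 1
  ζ_eq_iff : ∀ ψ φ, ψ ≠ 1 → φ ≠ 1 → (ζ ψ = ζ φ ↔ φ = ψ ∨ φ = ψ⁻¹)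
  block : ∀ χ ∈ principalBlock M G,
    (χ : G → ℂ) = (fun _ => 1) ∨ χ = lam ∨ ∃ ψ, ψ ≠ 1 ∧ χ = ζ ψ
  /-- On `p`-singular elements `λ` is constant. -/
  lam_sing : ∀ g : G, p ∣ orderOf g → (lam : G → ℂ) g = (δ : ℂ)
  /-- The exceptional values at `u` times an element of its centraliser of order prime to `p`. -/
  ζ_sing : ∀ ψ, ψ ≠ 1 → ∀ u : (P : Subgroup G), u ≠ 1 → ∀ w : G, Commute (u : G) w →
    ¬ p ∣ orderOf w →
    (ζ ψ : G → ℂ) ((u : G) * w) = (ε : ℂ) * ((ψ u : ℂ) + ((ψ u)⁻¹ : ℂˣ))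
  rel : ∀ ψ, ψ ≠ 1 → ∀ g : G, ¬ p ∣ orderOf g →
    1 + (δ : ℂ) * (lam : G → ℂ) g = (ε : ℂ) * (ζ ψ : G → ℂ) g

/-- The signed degree of `λ`. -/
noncomputable def Triple.b {G : Type u} [Group G] {M : Ideal AlgInt} {p : ℕ} {P : Sylow p G}
    (T : Triple M P) : ℤ :=
  T.δ * (charDegree (T.lam : G → ℂ) : ℤ)

/-- `B₀(p)` for inertial index three. -/
structure Quad {G : Type u} [Group G] (M : Ideal AlgInt) {p : ℕ} (P : Sylow p G) where
  lam : IrrCharacter G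
  mu : IrrCharacter G
  δ : ℤ
  δ' : ℤ
  ε : ℤ
  X : IrrCharacter G
  δ_eq : δ = 1 ∨ δ = -1
  δ'_eq : δ' = 1 ∨ δ' = -1
  ε_eq : ε = 1 ∨ ε = -1
  distinct : lam ≠ mu ∧ X ≠ lam ∧ X ≠ mu
  nontriv : (lam : G → ℂ) ≠ (fun _ => 1) ∧ (mu : G → ℂ) ≠ (fun _ => 1) ∧
    (X : G → ℂ) ≠ (fun _ => 1)
  lam_sing : ∀ g : G, p ∣ orderOf g → (lam : G → ℂ) g = (δ : ℂ)
  mu_sing : ∀ g : G, p ∣ orderOf g → (mu : G → ℂ) g = (δ' : ℂ)
  X_shift : ∀ u : (P : Subgroup G), u ≠ 1 → ∀ w : G, Commute (u : G) w → ¬ p ∣ orderOf w →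
    (X : G → ℂ) ((u : G) * w) = (X : G → ℂ) u
  X_sum : ∑ᶠ u : (P : Subgroup G), (X : G → ℂ) u = (X : G → ℂ) 1 - 3 * (ε : ℂ)
  X_nonconst : ∃ u v : (P : Subgroup G), u ≠ 1 ∧ v ≠ 1 ∧ (X : G → ℂ) u ≠ (X : G → ℂ) v
  rel : ∀ g : G, ¬ p ∣ orderOf g →
    1 + (δ : ℂ) * (lam : G → ℂ) g + (δ' : ℂ) * (mu : G → ℂ) g = (ε : ℂ) * (X : G → ℂ) g

def TripleStmt : Prop :=
  ∀ (G : Type u) [Group G] [Finite G] (p : ℕ) [Fact p.Prime] (M : Ideal AlgInt),
    IsPModular p M → p ≠ 2 → ∀ P : Sylow p G, IsCyclic P →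
      (centralizer ((P : Subgroup G) : Set G)).relIndex (normalizer ((P : Subgroup G) : Set G)) = 2 →
      Nonempty (Triple M P)

/-- The class sum identity for a pair of involutions at `y` (Brauer). `a` is `δλ(t)`. -/
def CountStmt : Prop :=
  ∀ (G : Type u) [Group G] [Finite G] (p : ℕ) [Fact p.Prime] (M : Ideal AlgInt),
    IsPModular p M → p ≠ 2 → ∀ P : Sylow p G, IsCyclic P →
    ∀ (T : Triple M P) (t y : G), orderOf t = 2 → OneClass G t → y ∈ (P : Subgroup G) →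
      orderOf y = p →
      ∃ a : ℤ, (T.δ : ℂ) * (T.lam : G → ℂ) t = (a : ℂ) ∧
        T.b ≠ 0 ∧ T.b ≠ -1 ∧ (Nat.card (P : Subgroup G) : ℤ) ∣ T.b - 1 ∧
        (Commute t y → (p : ℤ) ∣ a - 1) ∧
        (Nat.card G : ℤ) * (T.b - a) ^ 2 * Nat.card (centralizer ({y} : Set G)) =
          (Nat.card (centralizer ({t} : Set G)) : ℤ) ^ 2 * (invCount G y : ℤ) ^ 2 * T.b * (T.b + 1)

def QuadStmt : Prop :=
  ∀ (G : Type u) [Group G] [Finite G] (p : ℕ) [Fact p.Prime] (M : Ideal AlgInt),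
    IsPModular p M → p ≠ 2 → ∀ P : Sylow p G, IsCyclic P →
      (centralizer ((P : Subgroup G) : Set G)).relIndex (normalizer ((P : Subgroup G) : Set G)) = 3 →
      7 ≤ Nat.card (P : Subgroup G) →
      ∀ (t y : G), orderOf t = 2 → OneClass G t → y ∈ (P : Subgroup G) → orderOf y = p →
        invCount G y = 0 →
        ∃ (Q : Quad M P) (a c b d : ℤ),
          (Q.δ : ℂ) * (Q.lam : G → ℂ) t = (a : ℂ) ∧ (Q.δ' : ℂ) * (Q.mu : G → ℂ) t = (c : ℂ) ∧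
          b = Q.δ * (charDegree (Q.lam : G → ℂ) : ℤ) ∧ d = Q.δ' * (charDegree (Q.mu : G → ℂ) : ℤ) ∧
          (Nat.card (P : Subgroup G) : ℤ) ∣ b - 1 ∧ (Nat.card (P : Subgroup G) : ℤ) ∣ d - 1 ∧
          1 + b + d ≠ 0 ∧
          (1 : ℚ) + (a : ℚ) ^ 2 / b + (c : ℚ) ^ 2 / d = (1 + a + c : ℚ) ^ 2 / (1 + b + d)

/-! ### The principal 2-block -/

/-- Second main theorem at `t` when `C(t) / O` has a self-centralising normal 2-subgroup. -/
def MeanStmt : Prop :=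
  ∀ (G : Type u) [Group G] [Finite G] (M : Ideal AlgInt), IsPModular 2 M →
  ∀ (t : G), (∃ k : ℕ, orderOf t = 2 ^ k) → ∀ (O W : Subgroup G),
    O ≤ W → W ≤ centralizer ({t} : Set G) →
    centralizer ({t} : Set G) ≤ normalizer (O : Set G) →
    centralizer ({t} : Set G) ≤ normalizer (W : Set G) →
    Odd (Nat.card O) → (∃ k : ℕ, O.relIndex W = 2 ^ k) →
    (∀ g ∈ centralizer ({t} : Set G), (∀ w ∈ W, g * w * g⁻¹ * w⁻¹ ∈ O) → g ∈ W) →
    (∀ χ : IrrCharacter G, χ ∉ principalBlock M G →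
      ∑ᶠ w : O, (χ : G → ℂ) (t * (w : G)) = 0) ∧
    (∀ χ : IrrCharacter G, χ ∈ principalBlock M G → ∀ w ∈ O,
      (χ : G → ℂ) (t * w) = (χ : G → ℂ) t)

def RankStmt : Prop :=
  ∀ (G : Type u) [Group G] [Finite G] (M : Ideal AlgInt), IsPModular 2 M → ∀ S : Sylow 2 G,
    ((∃ n : ℕ, 2 ≤ n ∧ Nonempty ((S : Subgroup G) ≃* DihedralGroup n)) ∨
      IsQuasiDihedral (S : Subgroup G)) →
    blockRank 2 (principalBlock M G) ≤ 3

/-- An exceptional character of large Galois orbit is not in the principal 2-block. -/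
def OrbitStmt : Prop :=
  ∀ (G : Type u) [Group G] [Finite G] (p : ℕ) [Fact p.Prime] (M₂ Mp : Ideal AlgInt),
    IsPModular 2 M₂ → IsPModular p Mp → p ≠ 2 → ∀ P : Sylow p G, IsCyclic P →
    ∀ T : Triple Mp P, 7 ≤ Nat.card (P : Subgroup G) →
    blockRank 2 (principalBlock M₂ G) ≤ 3 →
    ∃ ψ, ψ ≠ 1 ∧ T.ζ ψ ∉ principalBlock M₂ G

/-- Second main theorem at a central involution of a group like `SL₂(r).2`, with Borel subgroup
`B` and split torus part `T₀`. -/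
def BorelMeanStmt : Prop :=
  ∀ (G : Type u) [Group G] [Finite G] (M : Ideal AlgInt), IsPModular 2 M →
  ∀ (t g₀ : G) (B R T₀ : Subgroup G) (r : ℕ), orderOf t = 2 → r.Prime → r ≠ 2 →
    B ≤ centralizer ({t} : Set G) → t ∈ B → R ≤ B → T₀ ≤ B → Nat.card R = r → Odd (Nat.card T₀) →
    B ≤ normalizer (R : Set G) → B ≤ normalizer ((R ⊔ T₀ : Subgroup G) : Set G) →
    (∃ k : ℕ, (R ⊔ T₀).relIndex B = 2 ^ k) →
    (∀ a ∈ B, ∀ b ∈ B, a * b * a⁻¹ * b⁻¹ ∈ R) →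
    (∀ d ∈ T₀, d ≠ 1 → ∀ ρ ∈ R, ρ ≠ 1 → ρ * d ≠ d * ρ) →
    Nat.card (centralizer ({t} : Set G)) = (r + 1) * Nat.card B →
    (∀ g ∈ centralizer ({t} : Set G), g ∉ B →
      r * Nat.card {b : G // b ∈ B ∧ g⁻¹ * b * g ∈ B} = Nat.card B) →
    g₀ ∈ centralizer ({t} : Set G) → g₀ ∉ B →
    (∀ d ∈ T₀, g₀ * d * g₀⁻¹ = d⁻¹) →
    (∀ d ∈ T₀, d ≠ 1 → Nat.card (centralizer ({t, d} : Set G)) * (r * (r + 1)) =
      Nat.card (centralizer ({t} : Set G))) →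
    (∀ d ∈ T₀, d ≠ 1 → ∀ g ∈ centralizer ({t} : Set G), g⁻¹ * d * g ∈ B →
      g ∈ B ∨ g₀⁻¹ * g ∈ B) →
    (∀ χ : IrrCharacter G, χ ∉ principalBlock M G →
      ∑ᶠ w : (R ⊔ T₀ : Subgroup G), (χ : G → ℂ) (t * (w : G)) = 0) ∧
    (∀ χ : IrrCharacter G, χ ∈ principalBlock M G → ∀ d ∈ T₀, d ≠ 1 →
      ∑ᶠ ρ : R, (χ : G → ℂ) (t * (ρ : G)) = (r : ℂ) * (χ : G → ℂ) (t * d))

/-! ### Facts about `PSL(2,s)` -/

def PSLPickStmt : Prop :=
  ∀ (L : Type u) [Group L] [Finite L] (s : ℕ) [Fact s.Prime], 5 ≤ s →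
    Nonempty (L ≃* Matrix.ProjectiveSpecialLinearGroup (Fin 2) (ZMod s)) →
    ∀ u : L, orderOf u = 2 →
    ∃ (q : ℕ) (z : L), q.Prime ∧ q ≠ 2 ∧ q ≠ s ∧ orderOf z = q ∧
      Odd (Nat.card (centralizer ({z} : Set L))) ∧
      (Nat.card (centralizer ({z} : Set L))).Coprime (Nat.card (centralizer ({u} : Set L)))

def PSLOuterStmt : Prop :=
  ∀ (N : Type u) [Group N] [Finite N] (L : Subgroup N) [L.Normal] (s : ℕ) [Fact s.Prime], 5 ≤ s →
    Nonempty (L ≃* Matrix.ProjectiveSpecialLinearGroup (Fin 2) (ZMod s)) →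
    L ⊔ centralizer (L : Set N) ≠ ⊤ →
    ∀ z ∈ L, (orderOf z).Coprime s → orderOf z ≠ 2 →
    ∃ n : N, n ∉ L ⊔ centralizer (L : Set N) ∧ Commute n z

/-! ### Configurations to be killed -/

/-- Dihedral Sylow 2-subgroup of order 8, a prime `p` dividing a noncentralised part of the core. -/
structure DihBad (G : Type u) [Group G] where
  p : ℕ
  hp : p.Prime
  hp2 : p ≠ 2
  R : ℕ
  hR : 3 ≤ R
  hpR : p ∣ R
  P : Sylow p G
  cyc : IsCyclic P
  relIndex_two :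
    (centralizer ((P : Subgroup G) : Set G)).relIndex (normalizer ((P : Subgroup G) : Set G)) = 2
  y : G
  y_mem : y ∈ (P : Subgroup G)
  y_ord : orderOf y = p
  S : Sylow 2 G
  σ : G
  τ : G
  σ_mem : σ ∈ (S : Subgroup G)
  τ_mem : τ ∈ (S : Subgroup G)
  σ_ord : orderOf σ = 4
  τ_ord : orderOf τ = 2
  rel : τ * σ * τ⁻¹ = σ⁻¹
  gen : Subgroup.closure ({σ, τ} : Set G) = (S : Subgroup G)
  one : OneClass G (σ ^ 2)
  comm : Commute (σ ^ 2) y
  inv_y : σ * y * σ⁻¹ = y⁻¹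
  card_ct : Nat.card (centralizer ({σ ^ 2} : Set G)) = 8 * R
  card_ctau : Nat.card (centralizer ({σ ^ 2, τ} : Set G)) = 4 * R
  card_cst : Nat.card (centralizer ({σ ^ 2, σ * τ} : Set G)) = 4
  card_cy : Nat.card (centralizer ({y} : Set G)) = 12 * R
  inv_count : invCount G y = 6 * R
  card_cs : Nat.card (centralizer ({σ} : Set G)) = 4
  y_core : y ∈ centralizerPPrimeCore 2 (σ ^ 2)
  P_core : p ≠ 3 → (P : Subgroup G) ≤ centralizerPPrimeCore 2 (σ ^ 2)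
  card_P3 : p = 3 → 9 ≤ Nat.card (P : Subgroup G)

/-- Klein Sylow 2-subgroup `U`, a prime `p` dividing `|C(U)|`. -/
structure KleinBad (G : Type u) [Group G] where
  p : ℕ
  hp : p.Prime
  hp2 : p ≠ 2
  P : Sylow p G
  cyc : IsCyclic P
  hp7 : 7 ≤ p
  relIndex_three :
    (centralizer ((P : Subgroup G) : Set G)).relIndex (normalizer ((P : Subgroup G) : Set G)) = 3
  y : G
  y_mem : y ∈ (P : Subgroup G)
  y_ord : orderOf y = p
  inv_zero : invCount G y = 0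
  S : Sylow 2 G
  klein : Nonempty ((S : Subgroup G) ≃* DihedralGroup 2)
  t : G
  t_mem : t ∈ (S : Subgroup G)
  t_ord : orderOf t = 2
  one : OneClass G t
  O : Subgroup G
  O_le : O ≤ centralizer ({t} : Set G)
  O_norm : centralizer ({t} : Set G) ≤ normalizer (O : Set G)
  O_odd : Odd (Nat.card O)
  O_index : O.relIndex (centralizer ({t} : Set G)) = 4
  P_le : (P : Subgroup G) ≤ O
  K : Subgroup G
  K_le : K ≤ O
  K_norm : O ≤ normalizer (K : Set G)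
  K_sup : K ⊔ (P : Subgroup G) = O
  K_coprime : ¬ p ∣ Nat.card K

/-- Semidihedral Sylow 2-subgroup, `C(t) = SL(2,r).2`, `3 ∣ (r - η)/2`. -/
structure SDTorus (G : Type u) [Group G] where
  n : ℕ
  hn : 4 ≤ n
  r : ℕ
  hr : r.Prime
  hr5 : 5 ≤ r
  η : ℤ
  hη : η = 1 ∨ η = -1
  T : ℕ
  T' : ℕ
  hT : (r : ℤ) - η = 2 * (T : ℤ)
  hT' : (r : ℤ) + η = 2 ^ (n - 2) * (T' : ℤ)
  T_odd : Odd T
  T'_odd : Odd T'
  T_three : 3 ∣ T
  two_part : (Nat.card G).factorization 2 = n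
  S : Sylow 2 G
  qd : IsQuasiDihedral (S : Subgroup G)
  t : G
  t_mem : t ∈ (S : Subgroup G)
  t_ord : orderOf t = 2
  one : OneClass G t
  card_ct : Nat.card (centralizer ({t} : Set G)) = 2 * r * (r ^ 2 - 1)
  c : G
  c_mem : c ∈ (S : Subgroup G)
  c_ord : orderOf c = 2 ^ (n - 1)
  c_pow : c ^ (2 ^ (n - 2)) = t
  three_prime : ∀ u : G, (∃ k : ℕ, 2 ≤ k ∧ orderOf u = 2 ^ k) →
    ¬ 3 ∣ Nat.card (centralizer ({u} : Set G))
  P : Sylow 3 G
  cyc : IsCyclic P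
  card_P : Nat.card (P : Subgroup G) = 3 * 3 ^ T.factorization 3
  relIndex_two :
    (centralizer ((P : Subgroup G) : Set G)).relIndex (normalizer ((P : Subgroup G) : Set G)) = 2
  y : G
  y_mem : y ∈ (P : Subgroup G)
  y_ord : orderOf y = 3
  comm : Commute t y
  card_cy : Nat.card (centralizer ({y} : Set G)) = 12 * T
  inv_count : invCount G y = 6 * T
  part_eq : ∀ q : ℕ, q.Prime → q ≠ 2 → q ≠ 3 → q ∣ r * (r ^ 2 - 1) →
    (Nat.card G).factorization q = (Nat.card (centralizer ({t} : Set G))).factorization q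
  /-- the Borel subgroup data for `BorelMeanStmt` -/
  g₀ : G
  B : Subgroup G
  R : Subgroup G
  T₀ : Subgroup G
  B_le : B ≤ centralizer ({t} : Set G)
  R_le : R ≤ B
  T₀_le : T₀ ≤ B
  card_R : Nat.card R = r
  T₀_odd : Odd (Nat.card T₀)
  card_T₀ : Nat.card T₀ = if η = 1 then T else T'
  T₀_y : η = 1 → y ∈ T₀
  B_normR : B ≤ normalizer (R : Set G)
  B_normH : B ≤ normalizer ((R ⊔ T₀ : Subgroup G) : Set G)
  H_index : ∃ k : ℕ, (R ⊔ T₀).relIndex B = 2 ^ k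
  B_index : Nat.card (centralizer ({t} : Set G)) = (r + 1) * Nat.card B
  t_mem_B : t ∈ B
  B_ab : ∀ a ∈ B, ∀ b ∈ B, a * b * a⁻¹ * b⁻¹ ∈ R
  T₀_fpf : ∀ d ∈ T₀, d ≠ 1 → ∀ ρ ∈ R, ρ ≠ 1 → ρ * d ≠ d * ρ
  two_trans : ∀ g ∈ centralizer ({t} : Set G), g ∉ B →
    r * Nat.card {b : G // b ∈ B ∧ g⁻¹ * b * g ∈ B} = Nat.card B
  g₀_mem : g₀ ∈ centralizer ({t} : Set G)
  g₀_notMem : g₀ ∉ B
  g₀_inv : ∀ d ∈ T₀, g₀ * d * g₀⁻¹ = d⁻¹
  cent_d : ∀ d ∈ T₀, d ≠ 1 → Nat.card (centralizer ({t, d} : Set G)) * (r * (r + 1)) =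
    Nat.card (centralizer ({t} : Set G))
  fix_d : ∀ d ∈ T₀, d ≠ 1 → ∀ g ∈ centralizer ({t} : Set G), g⁻¹ * d * g ∈ B →
    g ∈ B ∨ g₀⁻¹ * g ∈ B
  /-- the number of conjugates of `t` modulo `r`, up to the exceptional primes `q ≡ 1 (mod 2(r-1))` -/
  class_mod : ∃ m M : ℕ, Nat.card G = Nat.card (centralizer ({t} : Set G)) * m ∧ m % r = M % r ∧
    M ∣ m ∧ ∀ q : ℕ, q.Prime → q ∣ M →
      ¬ q ∣ Nat.card (centralizer ({t} : Set G)) ∧ 2 * (r - 1) ∣ q - 1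
  /-- elements of order prime to `|C(t)|` commute only with such elements, exceptional primes apart -/
  separated : ∀ g : G, ∀ q : ℕ, q.Prime → ¬ q ∣ Nat.card (centralizer ({t} : Set G)) →
    ¬ 2 * (r - 1) ∣ q - 1 → q ∣ orderOf g →
    (orderOf g).Coprime (Nat.card (centralizer ({t} : Set G)))

/-- Semidihedral Sylow 2-subgroup, `C(t) = (O × SL(2,3)).2` with `O ≠ 1`. -/
structure SDCore (G : Type u) [Group G] where
  S : Sylow 2 G
  qd : IsQuasiDihedral (S : Subgroup G)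
  t : G
  t_mem : t ∈ (S : Subgroup G)
  t_ord : orderOf t = 2
  one : OneClass G t
  two_part : (Nat.card G).factorization 2 = 4
  O : Subgroup G
  O_le : O ≤ centralizer ({t} : Set G)
  O_norm : centralizer ({t} : Set G) ≤ normalizer (O : Set G)
  O_cyc : IsCyclic O
  O_ne : O ≠ ⊥
  O_odd : Odd (Nat.card O)
  three_part : (Nat.card G).factorization 3 = 1 + (Nat.card O).factorization 3
  card_ct : Nat.card (centralizer ({t} : Set G)) = 48 * Nat.card O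
  K : Subgroup G
  K_le : K ≤ centralizer ({t} : Set G)
  O_le_K : O ≤ K
  card_K : Nat.card K = 24 * Nat.card O
  cent_o : ∀ o ∈ O, o ≠ 1 → centralizer ({o} : Set G) = K
  cent_h : ∀ h ∈ K, Odd (orderOf h) → h ∉ O →
    Nat.card (centralizer ({h} : Set G)) = 6 * Nat.card O
  c : G
  c_mem : c ∈ (S : Subgroup G)
  c_ord : orderOf c = 8
  c_pow : c ^ 4 = t
  card_cc : Nat.card (centralizer ({c} : Set G)) = 8
  card_cw : Nat.card (centralizer ({c ^ 2} : Set G)) = 8 * Nat.card O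
  W : Subgroup G
  W_le : W ≤ centralizer ({t} : Set G)
  O_le_W : O ≤ W
  W_norm : centralizer ({t} : Set G) ≤ normalizer (W : Set G)
  W_index : O.relIndex W = 8
  W_self : ∀ g ∈ centralizer ({t} : Set G), (∀ w ∈ W, g * w * g⁻¹ * w⁻¹ ∈ O) → g ∈ W
  p : ℕ
  hp : p.Prime
  hpO : p ∣ Nat.card O
  P : Sylow p G
  cyc : IsCyclic P
  P_le : p ≠ 3 → (P : Subgroup G) ≤ O
  card_P3 : p = 3 → 9 ≤ Nat.card (P : Subgroup G)
  relIndex_two :
    (centralizer ((P : Subgroup G) : Set G)).relIndex (normalizer ((P : Subgroup G) : Set G)) = 2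
  y : G
  y_mem : y ∈ (P : Subgroup G)
  y_ord : orderOf y = p
  inv_count : invCount G y = 12 * Nat.card O
  y_O : y ∈ O
  part_eq : ∀ q : ℕ, q.Prime → q ≠ 3 → q ∣ Nat.card O →
    (Nat.card G).factorization q = (Nat.card O).factorization q
  inv_O : ∀ o ∈ O, c * o * c⁻¹ = o⁻¹
  four_conj : ∀ g : G, orderOf g = 4 → IsConj g (c ^ 2)
  eight_conj : ∀ g : G, orderOf g = 8 → IsConj g c ∨ IsConj g c⁻¹
  eight_two : ¬ IsConj c c⁻¹

def DihKillStmt : Prop := ∀ (G : Type u) [Group G] [Finite G], Hyp G → DihBad G → False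
def KleinKillStmt : Prop := ∀ (G : Type u) [Group G] [Finite G], Hyp G → KleinBad G → False
def TorusKillStmt : Prop := ∀ (G : Type u) [Group G] [Finite G], Hyp G → SDTorus G → False
def CoreKillStmt : Prop := ∀ (G : Type u) [Group G] [Finite G], Hyp G → SDCore G → False

/-- The dihedral case from the two kills. -/
def DihedralStmt : Prop :=
  ∀ (G : Type u) [Group G] [Finite G], Hyp G → ∀ S : Sylow 2 G,
    (∃ n : ℕ, 2 ≤ n ∧ Nonempty ((S : Subgroup G) ≃* DihedralGroup n)) →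
    (DihBad G → False) → (KleinBad G → False) → SimpleGoal G

/-- The semidihedral case from the two kills. -/
def SemiStmt : Prop :=
  ∀ (G : Type u) [Group G] [Finite G], Hyp G → ∀ S : Sylow 2 G,
    IsQuasiDihedral (S : Subgroup G) → (SDTorus G → False) → (SDCore G → False) → False

end H76.CSy
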