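import Cfsg.Agent.H76.CSy.Defs
import Cfsg.Agent.H39.InvolTor
import Cfsg.Agent.H39.PSLShape
import Cfsg.Agent.H39.ProjField
import Cfsg.Agent.S0813

/-!
The two facts about `PSL(2,s)` used for S4069.
-/

set_option autoImplicit false
set_option linter.style.haveILetI false

open Cfsg Subgroup H39
open scoped MatrixGroups

namespace H76.CSy

universe u

variable {F : Type*} [Field F] [Fintype F] (p : ℕ) [Fact p.Prime] [CharP F p]

local notation "G2" => Matrix.ProjectiveSpecialLinearGroup (Fin 2) F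

/-- The centraliser of a semisimple element which is not an involution is its torus. -/
theorem centralizer_eq_tor {z : G2} (hz : z ^ p ≠ 1) (h2 : z ^ 2 ≠ 1) :
    centralizer ({z} : Set G2) = tor z := by
  have hz1 : z ≠ 1 := fun h => hz (by rw [h, one_pow])
  ext g
  rw [mem_centralizer_singleton_iff]
  constructor
  · intro hg
    by_contra hgT
    have hgn : g ∈ normalizer (tor z : Set G2) := by
      rw [Subgroup.mem_normalizer_iff]
      intro y
      have e : tor (g * z * g⁻¹) = (tor z).map (MulAut.conj g).toMonoidHom := tor_conj g z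
      rw [hg, mul_inv_cancel_right] at e
      constructor
      · intro hy
        rw [e]
        exact ⟨y, hy, rfl⟩
      · intro hy
        rw [e, Subgroup.mem_map_equiv, MulAut.conj_symm_apply] at hy
        simpa [mul_assoc] using hy
    have h := (normalizer_outside p hz hgn hgT).2.2 z (self_mem_tor z)
    rw [hg, mul_inv_cancel_right] at h
    apply h2
    rw [sq]
    nth_rewrite 2 [h]
    exact mul_inv_cancel z
  · intro hg
    exact (tor_comm hz1 hg (self_mem_tor z)).eq

/-- `cjP P` is inner only if `det P` is a square. -/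
theorem isSquare_det_of_inner (hp : p ≠ 2) (P : GL (Fin 2) F) (h : G2)
    (hP : ∀ x, cjP P x = h * x * h⁻¹) : IsSquare (P : Matrix (Fin 2) (Fin 2) F).det := by
  have h2 : (2 : F) ≠ 0 := Ring.two_ne_zero (by rw [ringChar.eq F p]; exact hp)
  obtain ⟨h, rfl⟩ := proj_surjective h
  set Q : GL (Fin 2) F := (Matrix.SpecialLinearGroup.toGL h)⁻¹ * P with hQ
  have hQ1 : ∀ g : SL(2, F), proj (cjSL Q g) = proj g := by
    intro g
    rw [← cjP_proj, hQ, cjP_mul, hP, ← cjP_toGL, ← cjP_mul, inv_mul_cancel, cjP_proj]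
    congr 1
    apply Subtype.ext
    show ((1 : GL (Fin 2) F) : Matrix (Fin 2) (Fin 2) F) * g *
      (((1 : GL (Fin 2) F)⁻¹ : GL (Fin 2) F) : Matrix (Fin 2) (Fin 2) F) = _
    simp
  have hsq : ∀ g : SL(2, F), cjSL Q (g * g) = g * g := by
    intro g
    rw [map_mul]
    rcases proj_eq_proj_iff.1 (hQ1 g) with e | e
    · rw [← e]
    · nth_rewrite 3 4 [e]
      rw [neg_mul_neg]
  have hcomm : ∀ g : SL(2, F), (Q : Matrix (Fin 2) (Fin 2) F) * (g * g : SL(2, F)) =
      (g * g : SL(2, F)) * (Q : Matrix (Fin 2) (Fin 2) F) := by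
    intro g
    have e := congrArg Subtype.val (hsq g)
    change (Q : Matrix (Fin 2) (Fin 2) F) * ((g * g : SL(2, F)) : Matrix (Fin 2) (Fin 2) F) *
      ((Q⁻¹ : GL (Fin 2) F) : Matrix (Fin 2) (Fin 2) F) =
      ((g * g : SL(2, F)) : Matrix (Fin 2) (Fin 2) F) at e
    have e' := congrArg (· * (Q : Matrix (Fin 2) (Fin 2) F)) e
    simpa [mul_assoc] using e'
  set M := (Q : Matrix (Fin 2) (Fin 2) F) with hM
  let U : SL(2, F) := ⟨!![1, (2 : F)⁻¹; 0, 1], by simp [Matrix.det_fin_two]⟩
  let L : SL(2, F) := ⟨!![1, 0; (2 : F)⁻¹, 1], by simp [Matrix.det_fin_two]⟩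
  have eU : ((U * U : SL(2, F)) : Matrix (Fin 2) (Fin 2) F) = !![1, 1; 0, 1] := by
    rw [Matrix.SpecialLinearGroup.coe_mul]
    ext i j
    fin_cases i <;> fin_cases j <;> simp [U, Matrix.mul_apply, Fin.sum_univ_two] <;>
      field_simp <;> ring
  have eL : ((L * L : SL(2, F)) : Matrix (Fin 2) (Fin 2) F) = !![1, 0; 1, 1] := by
    rw [Matrix.SpecialLinearGroup.coe_mul]
    ext i j
    fin_cases i <;> fin_cases j <;> simp [L, Matrix.mul_apply, Fin.sum_univ_two] <;>
      field_simp <;> ring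
  have hU := hcomm U
  have hL := hcomm L
  rw [eU] at hU
  rw [eL] at hL
  have u00 := congrFun (congrFun hU 0) 0
  have u01 := congrFun (congrFun hU 0) 1
  have l00 := congrFun (congrFun hL 0) 0
  simp [Matrix.mul_apply, Fin.sum_univ_two] at u00 u01 l00
  have e10 : M 1 0 = 0 := by linear_combination u00
  have e01 : M 0 1 = 0 := by linear_combination l00
  have e11 : M 1 1 = M 0 0 := by linear_combination -u01
  refine ⟨M 0 0, ?_⟩
  have : M.det = (P : Matrix (Fin 2) (Fin 2) F).det := by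
    rw [hM, hQ, Units.val_mul, Matrix.det_mul, ← map_inv]
    show (h⁻¹ : SL(2, F)).1.det * _ = _
    rw [(h⁻¹ : SL(2, F)).2, one_mul]
  rw [← this, Matrix.det_fin_two, e10, e01, e11]
  ring

/-- Every semisimple element is fixed by an outer diagonal automorphism. -/
theorem exists_outer_fix (hp : p ≠ 2) {z : G2} (hz : z ^ p ≠ 1) :
    ∃ α : MulAut G2, α z = z ∧ ∀ h : G2, α ≠ MulAut.conj h := by
  have h2 : (2 : F) ≠ 0 := Ring.two_ne_zero (by rw [ringChar.eq F p]; exact hp)
  obtain ⟨g, rfl⟩ := proj_surjective z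
  have htr : tr g ^ 2 ≠ 4 := fun e => hz ((pow_char_eq_one_iff p).2 e)
  obtain ⟨c, hc⟩ := FiniteField.exists_nonsquare (F := F) (by rw [ringChar.eq F p]; exact hp)
  obtain ⟨a, b, hab⟩ := H40.form_surjective (t := tr g) (d := 1)
    (Or.inl (by rw [mul_one]; exact sub_ne_zero.2 htr)) c
  set A := a • (1 : Matrix (Fin 2) (Fin 2) F) + b • (g : Matrix (Fin 2) (Fin 2) F) with hA
  have hd : A.det = c := by
    rw [hA, H40.det_poly, g.2, ← hab]
    unfold tr
    ring
  have hc0 : c ≠ 0 := fun h => hc (h ▸ IsSquare.zero)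
  set P : GL (Fin 2) F := Matrix.GeneralLinearGroup.mkOfDetNeZero A (hd ▸ hc0) with hP
  refine ⟨cjP P, ?_, fun h e => hc ?_⟩
  · rw [cjP_proj]
    congr 1
    apply Subtype.ext
    show A * (g : Matrix (Fin 2) (Fin 2) F) * ((P⁻¹ : GL (Fin 2) F) : Matrix (Fin 2) (Fin 2) F) = _
    have hcm : A * (g : Matrix (Fin 2) (Fin 2) F) = (g : Matrix (Fin 2) (Fin 2) F) * A := by
      rw [hA]
      simp [add_mul, mul_add]
    rw [hcm, mul_assoc]
    have : A * ((P⁻¹ : GL (Fin 2) F) : Matrix (Fin 2) (Fin 2) F) = 1 := Units.mul_inv P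
    rw [this, mul_one]
  · have := isSquare_det_of_inner p hp P h (fun x => by rw [e]; rfl)
    rwa [show (P : Matrix (Fin 2) (Fin 2) F) = A from rfl, hd] at this

omit [Fintype F] in
theorem conj_injective_of_centerless {L : Type*} [Group L] (h : center L = ⊥) :
    Function.Injective (MulAut.conj : L →* MulAut L) := by
  rw [← MonoidHom.ker_eq_bot_iff, eq_bot_iff, ← h]
  intro x hx
  rw [mem_center_iff]
  intro y
  have e := congrArg (fun α : MulAut L => α y) (MonoidHom.mem_ker.1 hx)
  simp only [MulAut.conj_apply, MulAut.one_apply] at e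
  exact (mul_inv_eq_iff_eq_mul.1 e).symm

section ZModFacts

variable {s : ℕ} [Fact s.Prime]

theorem zmod_card : Fintype.card (ZMod s) = s := ZMod.card s

theorem psl_zmod_card (hs : 5 ≤ s) :
    2 * Nat.card (Matrix.ProjectiveSpecialLinearGroup (Fin 2) (ZMod s)) = s * (s ^ 2 - 1) ∧
      Nat.card (MulAut (Matrix.ProjectiveSpecialLinearGroup (Fin 2) (ZMod s))) = s * (s ^ 2 - 1) := by
  have hodd : Odd s := (Fact.out : s.Prime).odd_of_ne_two (by omega)
  constructor
  · have h := card_PSL2_mul (F := ZMod s)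
    rw [zmod_card, show Nat.gcd 2 (s - 1) = 2 from Nat.gcd_eq_left
      (by obtain ⟨k, hk⟩ := hodd; omega)] at h
    exact h
  · rw [Cfsg.Agent.S0813.result (F := ZMod s) s 1 le_rfl (by simp) 2 le_rfl (fun _ => by simp; omega),
      card_PGL2, zmod_card]
    simp

end ZModFacts

theorem pslOuter : PSLOuterStmt.{u} := by
  intro N _ _ L _ s _ hs ⟨e⟩ hne z hzL hzs hz2
  have hs2 : s ≠ 2 := by omega
  haveI hsimp : IsSimpleGroup (Matrix.ProjectiveSpecialLinearGroup (Fin 2) (ZMod s)) :=
    Matrix.ProjectiveSpecialLinearGroup.rank_two_simple (by rw [Nat.card_eq_fintype_card, zmod_card]; omega)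
  by_cases hz1 : z = 1
  · obtain ⟨n, hn⟩ := SetLike.exists_not_mem_of_ne_top _ hne rfl
    exact ⟨n, hn, hz1 ▸ Commute.one_right n⟩
  obtain ⟨hcard, haut⟩ := psl_zmod_card (s := s) hs
  have hLs : 2 * Nat.card L = s * (s ^ 2 - 1) := by rw [Nat.card_congr e.toEquiv, hcard]
  have hA : Nat.card (MulAut L) = s * (s ^ 2 - 1) := by
    rw [← haut]
    exact Nat.card_congr (MulAut.congr e).toEquiv
  haveI : IsSimpleGroup L := e.isSimpleGroup
  have hcen : center L = ⊥ := by
    rcases (inferInstance : (center L).Normal).eq_bot_or_eq_top with h | h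
    · exact h
    · exfalso
      have hcomm : ∀ a b : L, a * b = b * a := fun a b => mem_center_iff.1 (h ▸ mem_top b) a
      have hprime : (Nat.card L).Prime := by
        letI : CommGroup L := { (inferInstance : Group L) with mul_comm := hcomm }
        exact IsSimpleGroup.prime_card
      have h3 : s * (s ^ 2 - 1) = 2 * Nat.card L := hLs.symm
      have hdvd : s ∣ Nat.card L := by
        have : s ∣ 2 * Nat.card L := h3 ▸ dvd_mul_right _ _
        exact ((Nat.coprime_primes Fact.out Nat.prime_two).2 hs2).dvd_of_dvd_mul_left this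
      have := (Nat.prime_dvd_prime_iff_eq Fact.out hprime).1 hdvd
      rw [← this, mul_comm 2 s] at h3
      have := Nat.eq_of_mul_eq_mul_left (by omega) h3
      have : 25 ≤ s ^ 2 := by nlinarith
      omega
  set φ : N →* MulAut L := MulAut.conjNormal with hφ
  have hinn : ∀ l : L, φ (l : N) = MulAut.conj l := fun l => by
    ext x
    rw [hφ, MulAut.conjNormal_apply]
    simp
  set I : Subgroup (MulAut L) := (MulAut.conj : L →* MulAut L).range with hI
  have hIcard : Nat.card I = Nat.card L :=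
    (Nat.card_congr (MonoidHom.ofInjective (conj_injective_of_centerless hcen)).toEquiv).symm
  have hIidx : I.index = 2 := by
    have h := I.card_mul_index
    rw [hIcard, hA, ← hLs, mul_comm 2] at h
    exact Nat.eq_of_mul_eq_mul_left Nat.card_pos h
  have hker : ∀ n : N, φ n ∈ I → n ∈ L ⊔ centralizer (L : Set N) := by
    intro n hn
    obtain ⟨l, hl⟩ := hn
    have : (l : N)⁻¹ * n ∈ centralizer (L : Set N) := by
      rw [Subgroup.mem_centralizer_iff]
      intro x hx
      have e : φ ((l : N)⁻¹ * n) ⟨x, hx⟩ = ⟨x, hx⟩ := by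
        rw [map_mul, map_inv, hinn, hl, inv_mul_cancel]
        rfl
      have e' := congrArg Subtype.val e
      rw [hφ, MulAut.conjNormal_apply] at e'
      exact (mul_inv_eq_iff_eq_mul.1 e').symm
    have := mul_mem_sup l.2 this
    rwa [mul_inv_cancel_left] at this
  obtain ⟨n₀, hn₀⟩ := SetLike.exists_not_mem_of_ne_top _ hne rfl
  have htop : φ.range = ⊤ := by
    have hle : I ≤ φ.range := by
      rintro a ⟨l, rfl⟩
      exact ⟨(l : N), hinn l⟩
    have hne' : I ≠ φ.range := fun h => hn₀ (hker n₀ (h ▸ ⟨n₀, rfl⟩))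
    rw [← index_eq_one]
    have h := relIndex_mul_index hle
    rw [hIidx] at h
    have h1 : I.relIndex φ.range ≠ 1 := fun h1 => hne' (le_antisymm hle (relIndex_eq_one.1 h1))
    rcases (Nat.dvd_prime Nat.prime_two).1 (Dvd.intro _ h) with h' | h'
    · exact absurd h' h1
    · rw [h'] at h
      omega
  set z' := e ⟨z, hzL⟩ with hz'
  have hord : orderOf z' = orderOf z := by
    rw [hz', MulEquiv.orderOf_eq, ← Subgroup.orderOf_coe]
  have hzp : z' ^ s ≠ 1 := by
    intro h
    have h' := orderOf_dvd_of_pow_eq_one h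
    rw [hord] at h'
    exact hz1 (orderOf_eq_one_iff.1 (Nat.eq_one_of_dvd_coprimes hzs dvd_rfl h'))
  obtain ⟨α, hα, hαo⟩ := exists_outer_fix (F := ZMod s) s hs2 hzp
  set β : MulAut L := (MulAut.congr e).symm α with hβ
  obtain ⟨n, hn⟩ : β ∈ φ.range := htop ▸ mem_top β
  have hβz : β ⟨z, hzL⟩ = ⟨z, hzL⟩ := by
    show e.symm (α (e ⟨z, hzL⟩)) = _
    rw [← hz', hα, hz', MulEquiv.symm_apply_apply]
  refine ⟨n, fun hmem => ?_, ?_⟩
  · have hβI : β ∈ I := by
      rw [sup_comm, ← SetLike.mem_coe, normal_mul] at hmem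
      obtain ⟨c, hc, l, hl, rfl⟩ := hmem
      refine ⟨⟨l, hl⟩, ?_⟩
      have hc1 : φ c = 1 := by
        ext x
        rw [hφ, MulAut.conjNormal_apply]
        have := (Subgroup.mem_centralizer_iff.1 hc) x x.2
        rw [← this]
        simp
      rw [← hn, map_mul, hc1, one_mul, ← hinn]
    obtain ⟨l, hl⟩ := hβI
    apply hαo (e l)
    ext x
    have h := congrArg (fun a : MulAut L => e (a (e.symm x))) hl
    simp only [hβ, MulAut.conj_apply, map_mul, map_inv, MulEquiv.apply_symm_apply] at h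
    rw [MulAut.conj_apply, h]
    show α x = e (e.symm (α (e (e.symm x))))
    simp
  · have h := congrArg Subtype.val (hn ▸ hβz : φ n ⟨z, hzL⟩ = ⟨z, hzL⟩)
    rw [hφ, MulAut.conjNormal_apply] at h
    exact mul_inv_eq_iff_eq_mul.1 h

theorem pslPick : PSLPickStmt.{u} := by
  intro L _ _ s _ hs ⟨e⟩ u hu
  haveI : CharP (ZMod s) s := ZMod.charP s
  have hodd : Odd (Fintype.card (ZMod s)) := by
    rw [zmod_card]; exact (Fact.out : s.Prime).odd_of_ne_two (by omega)
  have hgcd : Nat.gcd 2 (Fintype.card (ZMod s) - 1) = 2 := gcd_eq_two hodd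
  obtain ⟨y, hy, hyc⟩ : ∃ y : Matrix.ProjectiveSpecialLinearGroup (Fin 2) (ZMod s), y ^ s ≠ 1 ∧
      Nat.card (tor y) = if s % 4 = 1 then (s + 1) / 2 else (s - 1) / 2 := by
    split_ifs with h4
    · obtain ⟨y, h1, h2⟩ := exists_tor_plus (F := ZMod s) s
      exact ⟨y, h1, by rw [h2, hgcd, zmod_card]⟩
    · obtain ⟨y, h1, h2⟩ := exists_tor_minus (F := ZMod s) s (by rw [hgcd, zmod_card]; omega)
      exact ⟨y, h1, by rw [h2, hgcd, zmod_card]⟩
  rw [zmod_card] at hodd
  obtain ⟨k, hk⟩ := hodd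
  set m := Nat.card (tor y) with hm
  have hm1 : m ≠ 1 ∧ ¬ 2 ∣ m := by
    split_ifs at hyc <;> omega
  obtain ⟨q, hq, hqm⟩ := Nat.exists_prime_and_dvd hm1.1
  haveI : Fact q.Prime := ⟨hq⟩
  have hq2 : q ≠ 2 := fun h => hm1.2 (h ▸ hqm)
  obtain ⟨⟨z, hzy⟩, hz⟩ := exists_prime_orderOf_dvd_card' (G := tor y) q hqm
  have hzo : orderOf z = q := by
    have := Subgroup.orderOf_coe (⟨z, hzy⟩ : tor y)
    rw [hz] at this
    exact this
  have hqs : q ≠ s := by
    rintro rfl
    have h1 := Nat.le_of_dvd Nat.card_pos hqm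
    rw [← hm] at h1
    split_ifs at hyc <;> omega
  have hzs : z ^ s ≠ 1 := by
    intro h
    have h' := orderOf_dvd_of_pow_eq_one h
    rw [hzo] at h'
    exact hqs ((Nat.prime_dvd_prime_iff_eq hq Fact.out).1 h')
  have hz2 : z ^ 2 ≠ 1 := by
    intro h
    have h' := orderOf_dvd_of_pow_eq_one h
    rw [hzo] at h'
    exact hq2 ((Nat.prime_dvd_prime_iff_eq hq Nat.prime_two).1 h')
  have hz1 : z ≠ 1 := fun h => hz2 (by rw [h, one_pow])
  have hy1 : y ≠ 1 := fun h => hy (by rw [h, one_pow])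
  have hC : ∀ (x : L), Nat.card (centralizer ({x} : Set L)) =
      Nat.card (centralizer ({e x} : Set (Matrix.ProjectiveSpecialLinearGroup (Fin 2) (ZMod s)))) := by
    intro x
    refine Nat.card_congr (Equiv.subtypeEquiv e.toEquiv fun a => ?_)
    rw [mem_centralizer_singleton_iff, mem_centralizer_singleton_iff]
    show a * x = x * a ↔ e a * e x = e x * e a
    rw [← map_mul, ← map_mul, e.injective.eq_iff]
  have hCz : Nat.card (centralizer ({e.symm z} : Set L)) = m := by
    rw [hC, MulEquiv.apply_symm_apply, centralizer_eq_tor s hzs hz2, tor_eq_of_mem hy1 hzy hz1]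
  have hCu : Nat.card (centralizer ({u} : Set L)) = 2 * evenHalf s := by
    rw [hC, card_centralizer_invol s (by rw [zmod_card]; exact ⟨k, hk⟩) (by rw [MulEquiv.orderOf_eq, hu]),
      zmod_card]
  refine ⟨q, e.symm z, hq, hq2, hqs, by rw [MulEquiv.orderOf_eq, hzo], ?_, ?_⟩
  · rw [hCz, Nat.odd_iff]
    omega
  · rw [hCz, hCu, Nat.coprime_iff_gcd_eq_one]
    have hd1 := Nat.gcd_dvd_left m (2 * evenHalf s)
    have hd2 := Nat.gcd_dvd_right m (2 * evenHalf s)
    set d := Nat.gcd m (2 * evenHalf s)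
    have hd1' : d ∣ 2 * m := Dvd.dvd.mul_left hd1 2
    have hd : d ∣ 2 := by
      unfold evenHalf at hd2
      split_ifs at hd2 hyc with h4
      · have := Nat.dvd_sub hd1' hd2
        convert this using 1
        omega
      · have := Nat.dvd_sub hd2 hd1'
        convert this using 1
        omega
    rcases (Nat.dvd_prime Nat.prime_two).1 hd with h | h
    · exact h
    · exact absurd (h ▸ hd1) hm1.2

end H76.CSy
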