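import Cfsg.Agent.H76.CSy.KillTools
import Cfsg.Agent.H70.DihedralIso
import Cfsg.Agent.S4481
import Cfsg.Agent.S4482

/-!
The dihedral configuration of S4069 cannot occur.
-/

set_option autoImplicit false
set_option linter.style.haveILetI false
set_option linter.unusedSectionVars false

open Cfsg Subgroup

namespace H76.CSy

universe u

theorem dih_arith {R b c : ℤ} (hR : R = 3 ∨ 5 ≤ R) (hb4 : 4 ∣ b - 1) (hb : 20 ≤ b - 1 ∨ b - 1 ≤ -20)
    (hb36 : R = 3 → 36 ≤ b - 1 ∨ b - 1 ≤ -36) (hc4 : 4 ∣ c - 1) (hc : c ≠ 1)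
    (h : 3 * R ^ 2 * (b * (b + 1)) * (c - 1) ^ 2 = (R + 1) ^ 2 * (c * (c + 1)) * (b - 1) ^ 2) :
    False := by
  have hbb : 0 < b * (b + 1) := by rcases hb with h' | h' <;> nlinarith
  by_cases hc5 : c = 5
  · subst hc5
    rcases hR with rfl | hR
    · have h' : b * b - 29 * b + 10 = 0 := by nlinarith
      rcases hb36 rfl with h'' | h'' <;> nlinarith
    · have h1 : 8 * R ^ 2 * (b * (b + 1)) = 5 * (R + 1) ^ 2 * (b - 1) ^ 2 := by nlinarith
      have h2 : 25 * (R + 1) ^ 2 ≤ 36 * R ^ 2 := by nlinarith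
      have h3 : 10 * (b * (b + 1)) ≤ 9 * (b - 1) ^ 2 := by
        have h4 : 40 * R ^ 2 * (b * (b + 1)) ≤ 36 * R ^ 2 * (b - 1) ^ 2 := by
          nlinarith [mul_le_mul_of_nonneg_right h2 (sq_nonneg (b - 1))]
        nlinarith [mul_pos (mul_pos (show (0:ℤ) < R by omega) (show (0:ℤ) < R by omega)) hbb]
      have hlo : -28 ≤ b := by nlinarith
      have hhi : b ≤ 0 := by nlinarith
      obtain ⟨k, hk⟩ := hb4
      rcases (show b = -19 ∨ b = -23 ∨ b = -27 by omega) with rfl | rfl | rfl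
      all_goals
        have hR' : R ≤ 12 := by nlinarith
        interval_cases R <;> norm_num at h1
  · obtain ⟨j, hj⟩ := hc4
    have hj0 : c ≥ 9 ∨ c ≤ -3 := by omega
    have hcc : 0 < c * (c + 1) := by rcases hj0 with h' | h' <;> nlinarith
    have hA : 32 * (c * (c + 1)) ≤ 45 * (c - 1) ^ 2 := by rcases hj0 with h' | h' <;> nlinarith
    rcases hR with rfl | hR
    · have hC : 1190 * (b - 1) ^ 2 ≤ 1296 * (b * (b + 1)) := by
        rcases hb36 rfl with h' | h' <;> nlinarith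
      nlinarith [mul_le_mul_of_nonneg_left hA hbb.le, mul_le_mul_of_nonneg_left hC hcc.le,
        mul_pos hbb hcc]
    · have hC : 342 * (b - 1) ^ 2 ≤ 400 * (b * (b + 1)) := by rcases hb with h' | h' <;> nlinarith
      have hK : 25 * (R + 1) ^ 2 ≤ 36 * R ^ 2 := by nlinarith
      have hR2 : 0 < R ^ 2 := by positivity
      have e1 : 0 ≤ (R + 1) ^ 2 := sq_nonneg _
      nlinarith [mul_le_mul_of_nonneg_left hA (mul_nonneg hR2.le hbb.le),
        mul_le_mul_of_nonneg_left hC (mul_nonneg e1 hcc.le),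
        mul_le_mul_of_nonneg_right hK (mul_nonneg hbb.le hcc.le), mul_pos (mul_pos hR2 hbb) hcc]

variable {G : Type u} [Group G] [Finite G]

/-- An element of odd prime order with a fifth root of unity. -/
theorem fifth_root_ne {w : ℂ} (h5 : w ^ 5 = 1) (h1 : w ≠ 1)
    (h : w + w⁻¹ = w ^ 2 + (w ^ 2)⁻¹) : False := by
  have e1 : w⁻¹ = w ^ 4 := inv_eq_of_mul_eq_one_right (by rw [← h5]; ring)
  have e2 : (w ^ 2)⁻¹ = w ^ 3 := inv_eq_of_mul_eq_one_right (by rw [← h5]; ring)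
  rw [e1, e2] at h
  have hs : 1 + w + w ^ 2 + w ^ 3 + w ^ 4 = 0 := by
    have h0 : (w - 1) * (1 + w + w ^ 2 + w ^ 3 + w ^ 4) = 0 := by linear_combination h5
    exact (mul_eq_zero.1 h0).resolve_left (sub_ne_zero.2 h1)
  have h2 : 2 * (w + w ^ 4) = -1 := by linear_combination hs + h
  have h3 : (w + w ^ 4) ^ 2 = w ^ 2 + w ^ 3 + 2 := by linear_combination (w ^ 3 + 2) * h5
  have h4 : (1 : ℂ) = 6 := by linear_combination (-(2 * (w + w ^ 4)) + 1) * h2 + 4 * h3 - 4 * h + 2 * h2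
  norm_num at h4

set_option maxHeartbeats 1000000 in
theorem dihKill (hT : TripleStmt.{u}) (hC : CountStmt.{u}) (hR : RankStmt.{u}) (hO : OrbitStmt.{u}) :
    DihKillStmt.{u} := by
  intro G _ _ hyp D
  haveI : Fintype G := Fintype.ofFinite _
  haveI hp : Fact D.p.Prime := ⟨D.hp⟩
  haveI : Fact (Nat.Prime 2) := ⟨Nat.prime_two⟩
  obtain ⟨M₂, hM₂⟩ := H22.exists_isPModular 2 Nat.prime_two
  obtain ⟨M, hM⟩ := H22.exists_isPModular D.p D.hp
  haveI : M₂.IsPrime := H20.isPrime_of_modular hM₂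
  haveI := D.cyc
  obtain ⟨T⟩ := hT G D.p M hM D.hp2 D.P D.cyc D.relIndex_two
  set t := D.σ ^ 2 with ht
  have hs4 : orderOf D.σ = 4 := D.σ_ord
  have hto : orderOf t = 2 := by rw [ht, orderOf_pow, hs4]; rfl
  have hs3 : D.σ ^ 3 = D.σ⁻¹ := eq_inv_of_mul_eq_one_left
    (by rw [← pow_succ, show 3 + 1 = orderOf D.σ from hs4.symm, pow_orderOf_eq_one])
  obtain ⟨a, ha, hb0, hb1, hbP, -, hcount⟩ :=
    hC G D.p M hM D.hp2 D.P D.cyc T t D.y hto D.one D.y_mem D.y_ord
  -- the Sylow 2-subgroup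
  have hτs : D.τ ∉ zpowers D.σ := by
    intro h
    obtain ⟨k, hk⟩ := h
    have hcom : D.τ * D.σ * D.τ⁻¹ = D.σ := by
      rw [← hk]; exact mul_inv_eq_of_eq_mul ((Commute.refl D.σ).zpow_left k).eq
    rw [D.rel, ← hs3] at hcom
    have : D.σ ^ 2 = 1 := mul_right_cancel (b := D.σ) (by rw [← pow_succ, one_mul]; exact hcom)
    rw [← ht] at this
    rw [this, orderOf_one] at hto
    norm_num at hto
  have hττ' : D.τ * D.τ = 1 := by
    have := pow_orderOf_eq_one D.τ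
    rwa [D.τ_ord, pow_two] at this
  have hiso4 : Nonempty ((D.S : Subgroup G) ≃* DihedralGroup (2 ^ (3 - 1))) := by
    have hττ : D.τ * D.τ = 1 := by
      have := pow_orderOf_eq_one D.τ
      rwa [D.τ_ord, pow_two] at this
    have hrel' : ∀ x ∈ (D.S : Subgroup G), x ∈ zpowers D.σ ∨ x * D.τ ∈ zpowers D.σ := by
      intro x hx
      rw [← D.gen] at hx
      have hτi : D.τ⁻¹ = D.τ := inv_eq_of_mul_eq_one_right hττ
      have hconj : ∀ k : ℤ, D.τ * D.σ ^ k * D.τ = D.σ ^ (-k) := by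
        intro k
        have := map_zpow (MulAut.conj D.τ) D.σ k
        simp only [MulAut.conj_apply] at this
        rw [D.rel, hτi] at this
        rw [this, inv_zpow, zpow_neg]
      induction hx using Subgroup.closure_induction with
      | mem x hx =>
        rcases hx with rfl | rfl
        · exact Or.inl (mem_zpowers _)
        · exact Or.inr (hττ ▸ one_mem _)
      | one => exact Or.inl (one_mem _)
      | mul x z _ _ hx hz =>
        rcases hx with hx | hx <;> rcases hz with hz | hz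
        · exact Or.inl (mul_mem hx hz)
        · exact Or.inr (by rw [mul_assoc]; exact mul_mem hx hz)
        · obtain ⟨k, hk⟩ := hz
          refine Or.inr ?_
          have e : x * z * D.τ = (x * D.τ) * (D.τ * D.σ ^ k * D.τ) := by
            rw [← hk]; simp only [mul_assoc]; rw [← mul_assoc D.τ D.τ, hττ, one_mul]
          rw [e, hconj]
          exact mul_mem hx (zpow_mem (mem_zpowers _) _)
        · obtain ⟨k, hk⟩ := hz
          refine Or.inl ?_
          have e : x * z = (x * D.τ) * (D.τ * D.σ ^ k * D.τ) := by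
            rw [show D.σ ^ k = z * D.τ from hk]
            simp only [mul_assoc]
            rw [hττ, mul_one, ← mul_assoc D.τ D.τ, hττ, one_mul]
          rw [e, hconj]
          exact mul_mem hx (zpow_mem (mem_zpowers _) _)
      | inv x _ hx =>
        rcases hx with hx | hx
        · exact Or.inl (inv_mem hx)
        · obtain ⟨k, hk⟩ := hx
          refine Or.inr ?_
          have e : x⁻¹ * D.τ = D.τ * (D.σ ^ (-k)) * D.τ := by
            rw [zpow_neg, show D.σ ^ k = x * D.τ from hk, _root_.mul_inv_rev, hτi]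
            simp only [mul_assoc]
            rw [← mul_assoc D.τ D.τ, hττ, one_mul]
          rw [e, hconj]
          exact zpow_mem (mem_zpowers _) _
    have hidx : Nat.card (D.S : Subgroup G) = 2 * orderOf D.σ := by
      have hle : zpowers D.σ ≤ (D.S : Subgroup G) := zpowers_le.2 D.σ_mem
      rw [← Subgroup.card_mul_index ((zpowers D.σ).subgroupOf (D.S : Subgroup G)),
        Nat.card_congr (subgroupOfEquivOfLe hle).toEquiv, Nat.card_zpowers, mul_comm]
      congr 1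
      show (zpowers D.σ).relIndex (D.S : Subgroup G) = 2
      refine relIndex_eq_two_iff.2 ⟨D.τ, D.τ_mem, fun b hb => ?_⟩
      rcases hrel' b hb with h | h
      · refine Or.inr ⟨h, fun h' => hτs ?_⟩
        exact (mul_mem_cancel_left h).1 h'
      · exact Or.inl ⟨h, fun h' => hτs ((mul_mem_cancel_left h').1 h)⟩
    have hco : orderOf (⟨D.σ, D.σ_mem⟩ : (D.S : Subgroup G)) = orderOf D.σ :=
      (Subgroup.orderOf_coe _).symm
    rw [show 2 ^ (3 - 1) = 4 from rfl, ← hs4, ← hco]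
    refine H70.nonempty_mulEquiv_dihedral (x := ⟨D.τ, D.τ_mem⟩) ?_ ?_ ?_ ?_
    · rw [hco, hidx]
    · exact Subtype.ext (by rw [Subgroup.coe_mul, Subgroup.coe_one]; exact hττ)
    · intro hm
      obtain ⟨k, hk⟩ := hm
      exact hτs ⟨k, by simpa using congrArg Subtype.val hk⟩
    · exact Subtype.ext (by simpa using D.rel)
  have hiso : ∃ n : ℕ, 2 ≤ n ∧ Nonempty ((D.S : Subgroup G) ≃* DihedralGroup n) :=
    ⟨_, by norm_num, hiso4⟩
  have hrank := hR G M₂ hM₂ D.S (Or.inl hiso)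
  have hp2' : ¬ (2 : ℕ) ∣ D.p := fun h =>
    D.hp2 ((Nat.prime_dvd_prime_iff_eq Nat.prime_two D.hp).1 h).symm
  have hp5 : D.p = 3 ∨ 5 ≤ D.p := by
    have := D.hp.two_le
    have h4 : D.p ≠ 4 := fun h => by rw [h] at hp2'; exact hp2' ⟨2, rfl⟩
    have := D.hp2
    omega
  have hy1 : D.y ≠ 1 := fun h => by
    have := D.y_ord
    rw [h, orderOf_one] at this
    exact D.hp.ne_one this.symm
  obtain ⟨k, hk⟩ := IsPGroup.iff_card.1 D.P.isPGroup'
  have hpP : D.p ∣ Nat.card (D.P : Subgroup G) := by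
    have := orderOf_dvd_natCard (⟨D.y, D.y_mem⟩ : (D.P : Subgroup G))
    rwa [← Subgroup.orderOf_coe, D.y_ord] at this
  have hP5 : 5 ≤ Nat.card (D.P : Subgroup G) := by
    rcases hp5 with h | h
    · have := D.card_P3 h; omega
    · have := Nat.le_of_dvd Nat.card_pos hpP; omega
  have hPodd : Odd (Nat.card (D.P : Subgroup G)) := by
    rw [hk]; exact (D.hp.odd_of_ne_two D.hp2).pow
  -- an exceptional character outside the principal 2-block
  have htp : ¬ D.p ∣ orderOf t := fun h => by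
    rw [hto] at h
    exact D.hp2 ((Nat.prime_dvd_prime_iff_eq D.hp Nat.prime_two).1 h)
  obtain ⟨ψ, hψ, hXnot⟩ : ∃ ψ : (D.P : Subgroup G) →* ℂˣ, ψ ≠ 1 ∧
      T.ζ ψ ∉ principalBlock M₂ G := by
    by_cases hP7 : 7 ≤ Nat.card (D.P : Subgroup G)
    · exact hO G D.p M₂ M hM₂ hM D.hp2 D.P D.cyc T hP7 hrank
    have hp3 : D.p ≠ 3 := fun h => by have := D.card_P3 h; omega
    have hP : Nat.card (D.P : Subgroup G) = 5 := by
      obtain ⟨j, hj⟩ := hPodd
      omega
    have hp5' : D.p = 5 := (Nat.prime_dvd_prime_iff_eq D.hp (by norm_num)).1 (hP ▸ hpP)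
    have hcomm : ∀ a c : (D.P : Subgroup G), a * c = c * a :=
      fun a c => (IsCyclic.commutative (α := (D.P : Subgroup G))).is_comm.comm a c
    set yP : (D.P : Subgroup G) := ⟨D.y, D.y_mem⟩ with hyP
    have hyP1 : yP ≠ 1 := fun h => hy1 (congrArg Subtype.val h)
    obtain ⟨f, hf⟩ := H24.exists_dual_ne_one (D.P : Subgroup G) hcomm hyP1
    have hf1 : f ≠ 1 := fun h => hf (by rw [h]; rfl)
    refine ⟨f, hf1, fun hmem => ?_⟩
    have hy5 : yP ^ 5 = 1 := by
      rw [← hP]; exact pow_card_eq_one'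
    have hy2 : yP ^ 2 ≠ 1 := fun h => hyP1 (by
      have : yP = yP ^ 5 * (yP ^ 2)⁻¹ ^ 2 := by group
      rw [this, hy5, h, inv_one, one_pow, one_mul])
    have hval : ∀ u : (D.P : Subgroup G), u ≠ 1 → Commute (u : G) t →
        (T.ε : ℂ) * ((f u : ℂ) + ((f u)⁻¹ : ℂˣ)) = (T.ζ f : G → ℂ) t := by
      intro u hu hc
      rw [← T.ζ_sing f hf1 u hu t hc htp, hc.eq]
      exact H20.principal_shift_core hM₂ (u := t) ⟨1, by rw [hto, pow_one]⟩
        (D.P_core hp3 u.2) hmem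
    have e1 := hval yP hyP1 D.comm.symm
    have e2 := hval (yP ^ 2) hy2 (by rw [SubgroupClass.coe_pow]; exact D.comm.symm.pow_left 2)
    rw [← e1] at e2
    have hε : (T.ε : ℂ) ≠ 0 := by
      rcases T.ε_eq with h | h <;> rw [h] <;> norm_num
    have e3 := mul_left_cancel₀ hε e2
    rw [map_pow, Units.val_inv_eq_inv_val, Units.val_inv_eq_inv_val, Units.val_pow_eq_pow_val] at e3
    refine fifth_root_ne (w := (f yP : ℂ)) ?_ ?_ e3.symm
    · rw [← Units.val_pow_eq_pow_val, ← map_pow, hy5, map_one, Units.val_one]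
    · exact fun h => hf (Units.ext h)
  -- `λ` in the principal 2-block
  have hδ1 : (T.δ : ℂ) * T.δ = 1 := by
    rcases T.δ_eq with h | h <;> rw [h] <;> norm_num
  have hcs : ∀ c : G, Commute D.σ c → ¬ 2 ∣ orderOf c → c = 1 := by
    intro c hc h2
    have hle : zpowers D.σ ≤ centralizer ({D.σ} : Set G) := zpowers_le.2 (by
      rw [mem_centralizer_singleton_iff])
    have heq : zpowers D.σ = centralizer ({D.σ} : Set G) :=
      Subgroup.eq_of_le_of_card_ge hle (by rw [D.card_cs, Nat.card_zpowers, hs4])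
    have hmem : c ∈ zpowers D.σ := heq ▸ mem_centralizer_singleton_iff.2 hc.eq.symm
    have h4 : orderOf c ∣ 4 := by
      rw [← hs4]; exact orderOf_dvd_of_mem_zpowers hmem
    obtain ⟨i, hi, he⟩ := (Nat.dvd_prime_pow Nat.prime_two).1 (show orderOf c ∣ 2 ^ 2 from h4)
    rcases i with _ | i
    · exact orderOf_eq_one_iff.1 he
    · exact absurd (by rw [he, pow_succ]; exact dvd_mul_left 2 _) h2
  obtain ⟨hlmem, hls⟩ := section_three hM₂ (z := D.σ) ⟨2, hs4⟩ T.lam (T.ζ ψ) T.lam_ne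
    (T.ζ_ne ψ hψ).2 (T.δ : ℂ) (-(T.ε : ℂ)) hXnot (fun c hc h2 => by
      rw [hcs c hc h2, mul_one]
      have hps : ¬ D.p ∣ orderOf D.σ := fun h => by
        rw [hs4] at h
        exact D.hp2 ((Nat.prime_dvd_prime_iff_eq D.hp Nat.prime_two).1
          (D.hp.dvd_of_dvd_pow (show D.p ∣ 2 ^ 2 from h)))
      linear_combination T.rel ψ hψ D.σ hps)
  have hlσ : (T.lam : G → ℂ) D.σ = -(T.δ : ℂ) := by
    linear_combination (T.δ : ℂ) * hls - (T.lam : G → ℂ) D.σ * hδ1
  -- `λ(t) = δ`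
  have hlt : (T.lam : G → ℂ) t = (T.δ : ℂ) := by
    rw [← H20.principal_shift_core hM₂ (u := t) ⟨1, by rw [hto, pow_one]⟩ D.y_core hlmem]
    apply T.lam_sing
    have hcp : (orderOf t).Coprime (orderOf D.y) := by
      rw [hto, D.y_ord]
      exact (Nat.coprime_primes Nat.prime_two D.hp).2 (Ne.symm D.hp2)
    rw [(show Commute t D.y from D.comm).orderOf_mul_eq_mul_orderOf_of_coprime hcp, D.y_ord]
    exact dvd_mul_left _ _
  have ha1 : a = 1 := by
    rw [hlt, hδ1] at ha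
    exact_mod_cast ha.symm
  subst ha1
  -- congruences
  have hdeg := irr_one_eq_deg T.lam
  have hbC : (T.b : ℂ) = (T.δ : ℂ) * (T.lam : G → ℂ) 1 := by
    rw [hdeg, Triple.b, Int.cast_mul]
  have hl3 : (T.lam : G → ℂ) (D.σ ^ 3) = (T.lam : G → ℂ) D.σ := by
    rw [hs3, ← D.rel, irr_conj]
  have hb4 : (4 : ℤ) ∣ T.b - 1 := by
    obtain ⟨m, hm⟩ := dvd_sum_zpowers T.lam D.σ
    rw [hs4, Finset.sum_range_succ, Finset.sum_range_succ, Finset.sum_range_succ,
      Finset.sum_range_one, pow_zero, pow_one, hl3, ← ht, hlσ, hlt] at hm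
    refine ⟨T.δ * m, ?_⟩
    have e : ((T.b - 1 : ℤ) : ℂ) = ((4 * (T.δ * (m : ℤ)) : ℤ) : ℂ) := by
      push_cast
      rw [hbC]
      push_cast at hm
      linear_combination (T.δ : ℂ) * hm + hδ1
    exact_mod_cast e
  -- the other character
  obtain ⟨-, χ₁, χ₂, χ₃, χ', δ₁, δ₂, δ₃, hd1, -, -, -, hχ1, -, -, -, -, -, -, hB, hval, -⟩ :=
    Cfsg.Agent.S4481.result M₂ hM₂ 3 le_rfl D.S hiso4 D.σ D.σ_mem (by rw [hs4]; rfl)
      (Complex.exp (2 * Real.pi * Complex.I / (2 ^ (3 - 1) : ℕ)))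
      (Complex.isPrimitiveRoot_exp _ (by norm_num))
  have hχ1mem : χ₁ ∈ principalBlock M₂ G := by
    rw [hB]; exact Or.inr (Or.inl rfl)
  have hval1 : ∀ l : ℕ, 0 < l → l < 2 ^ (3 - 1) → (χ₁ : G → ℂ) (D.σ ^ l) = δ₁ :=
    fun l h0 h4 => (hval l h0 h4).1
  have hconj : IsConj (D.σ ^ (2 ^ (3 - 2))) D.τ ∧ IsConj (D.σ ^ (2 ^ (3 - 2))) (D.σ * D.τ) := by
    refine ⟨D.one _ D.τ_ord, D.one _ ?_⟩
    refine orderOf_eq_prime ?_ ?_
    · rw [sq]
      have e : D.τ * D.σ = D.σ⁻¹ * D.τ := mul_inv_eq_iff_eq_mul.1 D.rel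
      rw [mul_assoc, ← mul_assoc D.τ, e, mul_assoc, hττ', mul_one, mul_inv_cancel]
    · intro h
      apply hτs
      rw [show D.τ = D.σ⁻¹ from eq_inv_of_mul_eq_one_right h]
      exact inv_mem (mem_zpowers _)
  obtain ⟨hxne, hx⟩ := Cfsg.Agent.S4482.result M₂ hM₂ 3 le_rfl D.S D.σ D.τ D.σ_mem D.τ_mem
    (by rw [hs4]; rfl) D.τ_ord D.rel D.gen hconj χ₁ hχ1mem hχ1 δ₁ hd1 hval1
  set x : ℤ := (charDegree (χ₁ : G → ℂ) : ℤ) with hxdef
  have hd11 : δ₁ * δ₁ = 1 := by rcases hd1 with h | h <;> rw [h] <;> norm_num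
  have hc4 : (4 : ℤ) ∣ δ₁ * x - 1 := by
    obtain ⟨m, hm⟩ := dvd_sum_zpowers χ₁ D.σ
    rw [hs4, Finset.sum_range_succ, Finset.sum_range_succ, Finset.sum_range_succ,
      Finset.sum_range_one, pow_zero, hval1 1 one_pos (by norm_num),
      hval1 2 two_pos (by norm_num), hval1 3 (by norm_num) (by norm_num), irr_one_eq_deg] at hm
    refine ⟨δ₁ * m - 1, ?_⟩
    have e : x + δ₁ + δ₁ + δ₁ = (4 : ℤ) * m := by exact_mod_cast hm
    linear_combination δ₁ * e - 3 * hd11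
  have hc1 : δ₁ * x ≠ 1 := fun h => hxne (by linear_combination δ₁ * h - x * hd11)
  -- the order formulas
  set R : ℤ := (D.R : ℤ) with hRdef
  have hR3 : R = 3 ∨ 5 ≤ R := by
    have h3 := D.hR
    by_cases h4 : D.R = 4
    · exfalso
      have hd : D.p ∣ 2 ^ 2 := by
        have := D.hpR
        rw [h4] at this
        exact this
      exact D.hp2 ((Nat.prime_dvd_prime_iff_eq D.hp Nat.prime_two).1 (D.hp.dvd_of_dvd_pow hd))
    · omega
  have hcount' : (Nat.card G : ℤ) * (T.b - 1) ^ 2 * (12 * R) =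
      (8 * R) ^ 2 * (6 * R) ^ 2 * T.b * (T.b + 1) := by
    rw [D.card_cy, D.inv_count, D.card_ct] at hcount
    push_cast at hcount
    exact hcount
  have hx' : (Nat.card G : ℤ) * (x - δ₁) ^ 2 = 64 * R * (R + 1) ^ 2 * (x * (x + δ₁)) := by
    rw [show (2 : ℕ) ^ (3 - 2) = 2 from rfl, ← ht, D.card_ct, D.card_ctau, D.card_cst] at hx
    have hR0 : (D.R : ℚ) ≠ 0 := by
      have := D.hR
      exact_mod_cast (show D.R ≠ 0 by omega)
    push_cast at hx
    have e : (Nat.card G : ℚ) * ((charDegree (χ₁ : G → ℂ) : ℚ) - δ₁) ^ 2 =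
        64 * (D.R : ℚ) * ((D.R : ℚ) + 1) ^ 2 * ((charDegree (χ₁ : G → ℂ) : ℚ) *
          ((charDegree (χ₁ : G → ℂ) : ℚ) + δ₁)) := by
      rw [hx]
      field_simp
      ring
    rw [hxdef, hRdef]
    exact_mod_cast e
  have hb20 : 20 ≤ T.b - 1 ∨ T.b - 1 ≤ -20 := by
    have hne : T.b - 1 ≠ 0 := fun h => by
      rw [h, show T.b = 1 by omega] at hcount'
      nlinarith only [hcount', pow_pos (show (0:ℤ) < R by omega) 4]
    have hd : ((4 * Nat.card (D.P : Subgroup G) : ℕ) : ℤ) ∣ T.b - 1 := by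
      push_cast
      refine (Int.isCoprime_iff_gcd_eq_one.2 ?_).mul_dvd hb4 hbP
      rw [show (4 : ℤ) = ((4 : ℕ) : ℤ) from rfl, Int.gcd_natCast_natCast]
      exact Nat.Coprime.pow_left 2 (Nat.coprime_two_left.2 hPodd)
    obtain ⟨j, hj⟩ := hd
    push_cast at hj
    have hP' : (5 : ℤ) ≤ Nat.card (D.P : Subgroup G) := by exact_mod_cast hP5
    rcases lt_trichotomy j 0 with h | h | h
    · right; rw [hj]; nlinarith only [h, hP']
    · exact absurd (by rw [hj, h, mul_zero]) hne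
    · left; rw [hj]; nlinarith only [h, hP']
  have hb36 : R = 3 → 36 ≤ T.b - 1 ∨ T.b - 1 ≤ -36 := by
    intro h
    have hp3 : D.p = 3 := by
      have h' : D.R = 3 := by omega
      exact (Nat.prime_dvd_prime_iff_eq D.hp Nat.prime_three).1 (h' ▸ D.hpR)
    have h9 : (9 : ℤ) ≤ Nat.card (D.P : Subgroup G) := by exact_mod_cast D.card_P3 hp3
    have hd : (4 : ℤ) * Nat.card (D.P : Subgroup G) ∣ T.b - 1 := by
      refine (Int.isCoprime_iff_gcd_eq_one.2 ?_).mul_dvd hb4 hbP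
      rw [show (4 : ℤ) = ((4 : ℕ) : ℤ) from rfl, Int.gcd_natCast_natCast]
      exact Nat.Coprime.pow_left 2 (Nat.coprime_two_left.2 hPodd)
    obtain ⟨j, hj⟩ := hd
    rcases lt_trichotomy j 0 with h | h | h
    · right; rw [hj]; nlinarith only [h, h9]
    · rcases hb20 with h' | h' <;> rw [hj, h, mul_zero] at h' <;> omega
    · left; rw [hj]; nlinarith only [h, h9]
  refine dih_arith (R := R) hR3 hb4 hb20 hb36 hc4 hc1 ?_
  have hn : (Nat.card G : ℤ) ≠ 0 := Nat.cast_ne_zero.2 Nat.card_pos.ne'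
  have hR0 : 64 * R ≠ 0 := by omega
  have hcount'' : (Nat.card G : ℤ) * (T.b - 1) ^ 2 = 192 * R ^ 3 * (T.b * (T.b + 1)) :=
    mul_right_cancel₀ (show (12 * R : ℤ) ≠ 0 by omega) (by linear_combination hcount')
  have hx'' : (Nat.card G : ℤ) * (δ₁ * x - 1) ^ 2 =
      64 * R * (R + 1) ^ 2 * (δ₁ * x * (δ₁ * x + 1)) := by
    linear_combination hx' + ((Nat.card G : ℤ) * (x ^ 2 - 1) - 64 * R * (R + 1) ^ 2 * x ^ 2) * hd11
  refine mul_left_cancel₀ hR0 (mul_left_cancel₀ hn ?_)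
  linear_combination (Nat.card G : ℤ) * (δ₁ * x - 1) ^ 2 * hcount''.symm +
    (-(Nat.card G : ℤ)) * (T.b - 1) ^ 2 * hx''.symm

end H76.CSy
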