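import Cfsg.Agent.H76.CSy.Defs
import Cfsg.Agent.H20.FreeAction
import Cfsg.Agent.H20.OrthConv
import Cfsg.Agent.H24.UnitValuesMain
import Cfsg.Agent.H22.ValueMod

/-!
Small character tools for the configurations excluded in S4069.
-/

set_option autoImplicit false
set_option linter.style.haveILetI false
set_option linter.unusedSectionVars false

open Cfsg Subgroup

namespace H76.CSy

universe u

variable {G : Type u} [Group G]

theorem irr_conj (χ : IrrCharacter G) (g x : G) : (χ : G → ℂ) (g * x * g⁻¹) = (χ : G → ℂ) x :=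
  H12.irr_isClassFunction χ x g

theorem irr_one_eq_deg [Finite G] (χ : IrrCharacter G) :
    (χ : G → ℂ) 1 = ((charDegree (χ : G → ℂ) : ℤ) : ℂ) := by
  haveI : Fintype G := Fintype.ofFinite _
  rw [H12.irr_apply_one, H20.charDegree_eq_degree, Int.cast_natCast]

/-- A three term relation on a whole section holds inside the principal block. -/
theorem section_three [Fintype G] {p : ℕ} {M : Ideal AlgInt} (hM : IsPModular p M) {z : G}
    (hz : ∃ k : ℕ, orderOf z = p ^ k) (χ₁ χ₂ : IrrCharacter G)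
    (h₁ : (χ₁ : G → ℂ) ≠ fun _ => 1) (h₂ : (χ₂ : G → ℂ) ≠ fun _ => 1) (u v : ℂ)
    (hX : χ₂ ∉ principalBlock M G)
    (hrel : ∀ c : G, Commute z c → ¬ p ∣ orderOf c →
      1 + u * (χ₁ : G → ℂ) (z * c) + v * (χ₂ : G → ℂ) (z * c) = 0) :
    χ₁ ∈ principalBlock M G ∧ 1 + u * (χ₁ : G → ℂ) z = 0 := by
  classical
  haveI : M.IsPrime := H20.isPrime_of_modular hM
  haveI : Fintype (centralizer ({z} : Set G)) := Fintype.ofFinite _
  set e : IrrCharacter G := H12.oneIrr G
  have he₁ : χ₁ ≠ e := fun h => h₁ (by rw [h]; rfl)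
  have he₂ : χ₂ ≠ e := fun h => h₂ (by rw [h]; rfl)
  let κ : IrrCharacter G → ℂ := fun ζ =>
    (if ζ = e then 1 else 0) + (if ζ = χ₁ then u else 0) + (if ζ = χ₂ then v else 0)
  have hsum : ∀ (s : Finset (IrrCharacter G)) (x : G), ∑ ζ ∈ s, κ ζ * (ζ : G → ℂ) x =
      (if e ∈ s then 1 else 0) + (if χ₁ ∈ s then u * (χ₁ : G → ℂ) x else 0) +
        (if χ₂ ∈ s then v * (χ₂ : G → ℂ) x else 0) := by
    intro s x
    simp only [κ, add_mul, ite_mul, zero_mul, Finset.sum_add_distrib, Finset.sum_ite_eq', one_mul]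
    rfl
  have h := H20.principal_section_zero hM hz κ (fun c hc => by
    rw [hsum]
    simp only [Finset.mem_univ, if_true]
    refine hrel (c : G) (mem_centralizer_singleton_iff.1 c.2).symm ?_
    rwa [Subgroup.orderOf_coe]) 1 (by simp [hM.1.ne_one])
  rw [finsum_mem_eq_toFinset_sum, OneMemClass.coe_one, mul_one, hsum] at h
  simp only [Set.mem_toFinset, if_neg hX, add_zero,
    if_pos (show e ∈ principalBlock M G from H20.mem_blockOf_self (H12.oneIrr G))] at h
  split_ifs at h with h1
  · exact ⟨h1, h⟩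
  · simp at h

/-- The multiplicity of the trivial character of a cyclic subgroup is an integer. -/
theorem dvd_sum_zpowers [Finite G] (χ : IrrCharacter G) (z : G) :
    ∃ m : ℕ, ∑ i ∈ Finset.range (orderOf z), (χ : G → ℂ) (z ^ i) = (orderOf z : ℂ) * m := by
  classical
  obtain ⟨d, ρ, hρ, hχ⟩ := χ.2
  haveI : Fintype (zpowers z) := Fintype.ofFinite _
  let σ : Representation ℂ (zpowers z) (Fin d → ℂ) := ρ.comp (zpowers z).subtype
  refine ⟨Module.finrank ℂ σ.invariants, ?_⟩
  rw [← Representation.card_inv_mul_sum_char_eq_finrank σ]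
  rw [← mul_assoc, show Nat.card (zpowers z) = orderOf z by rw [Nat.card_zpowers],
    mul_inv_cancel₀ (Nat.cast_ne_zero.2 (orderOf_pos z).ne'), one_mul]
  refine (Finset.sum_bij' (fun i _ => (⟨z ^ i, pow_mem (mem_zpowers z) i⟩ : zpowers z))
    (fun w _ => (finEquivZPowers (isOfFinOrder_of_finite z)).symm w) ?_ ?_ ?_ ?_ ?_)
  · intro i _; exact Finset.mem_univ _
  · intro w _; exact Finset.mem_range.2 (Fin.is_lt _)
  · intro i hi
    have hi' := Finset.mem_range.1 hi
    have := (finEquivZPowers (isOfFinOrder_of_finite z)).symm_apply_apply ⟨i, hi'⟩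
    rw [finEquivZPowers_apply] at this
    simpa using congrArg Fin.val this
  · intro w _
    have := (finEquivZPowers (isOfFinOrder_of_finite z)).apply_symm_apply w
    rw [finEquivZPowers_apply] at this
    exact this
  · intro i _
    rw [← hχ]
    rfl

end H76.CSy
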