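import Cfsg.Agent.H76.CSy.KillTools
import Cfsg.Agent.H20.PPart
import Cfsg.Agent.H12.Linear

/-!
The Klein configuration of S4069 cannot occur.
-/

set_option autoImplicit false
set_option linter.style.haveILetI false
set_option linter.unusedSectionVars false

open Cfsg Subgroup

namespace H76.CSy

universe u

theorem klein_arith {b d P : ℤ} (hP : 7 ≤ P) (hb : 2 * P ∣ b - 1) (hd : 2 * P ∣ d - 1)
    (hb1 : b ≠ 1) (hd1 : d ≠ 1) (h : (b * d + b + d) * (1 + b + d) = 9 * (b * d)) : False := by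
  obtain ⟨i, hi⟩ := hb
  obtain ⟨j, hj⟩ := hd
  have hi0 : i ≠ 0 := fun e => hb1 (by rw [e, mul_zero] at hi; omega)
  have hj0 : j ≠ 0 := fun e => hd1 (by rw [e, mul_zero] at hj; omega)
  have hB : 15 ≤ b ∨ b ≤ -13 := by
    rcases lt_or_gt_of_ne hi0 with e | e
    · right; nlinarith
    · left; nlinarith
  have hD : 15 ≤ d ∨ d ≤ -13 := by
    rcases lt_or_gt_of_ne hj0 with e | e
    · right; nlinarith
    · left; nlinarith
  have hs : b + d ≤ 6 ∨ 16 ≤ b + d ∨ i + j = 0 := by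
    rcases lt_trichotomy (i + j) 0 with e | e | e
    · left; nlinarith
    · right; right; exact e
    · right; left; nlinarith
  have key : b * d * (8 - (b + d)) = (b + d) * (b + d + 1) := by linear_combination -h
  rcases hs with hs | hs | hs
  · have hS : 0 ≤ (b + d) * (b + d + 1) := by
      rcases le_or_gt 0 (b + d) with e | e <;> nlinarith
    rcases hB with h1 | h1 <;> rcases hD with h2 | h2
    · omega
    · have hN : b * d ≤ -195 := by nlinarith
      nlinarith [mul_le_mul_of_nonneg_right hN (show 0 ≤ 8 - (b + d) by omega)]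
    · have hN : b * d ≤ -195 := by nlinarith
      nlinarith [mul_le_mul_of_nonneg_right hN (show 0 ≤ 8 - (b + d) by omega)]
    · have hN : -13 * (b + d) - 169 ≤ b * d := by nlinarith
      have hS' : b + d ≤ -26 := by omega
      nlinarith [mul_le_mul_of_nonneg_right hN (show 0 ≤ 8 - (b + d) by omega)]
  · rcases hB with h1 | h1 <;> rcases hD with h2 | h2
    · nlinarith [mul_pos (show 0 < b by omega) (show 0 < d by omega)]
    · have hN : b * d ≤ -13 * (b + d) - 169 := by nlinarith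
      nlinarith [mul_le_mul_of_nonneg_right hN (show 0 ≤ b + d - 8 by omega)]
    · have hN : b * d ≤ -13 * (b + d) - 169 := by nlinarith
      nlinarith [mul_le_mul_of_nonneg_right hN (show 0 ≤ b + d - 8 by omega)]
    · omega
  · have hsum : b + d = 2 := by
      have : 2 * P * (i + j) = 0 := by rw [hs, mul_zero]
      linarith
    rw [hsum] at key
    have hN : b * d = 1 := by omega
    rcases hB with h1 | h1 <;> nlinarith

variable {G : Type u} [Group G] [Finite G]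

theorem eq_oneIrr_of_deg_one (hyp : Hyp G) (χ : IrrCharacter G) (h : (χ : G → ℂ) 1 = 1) :
    (χ : G → ℂ) = fun _ => 1 := by
  haveI : Fintype G := Fintype.ofFinite _
  obtain ⟨f, hf⟩ := H12.exists_monoidHom_of_apply_one_eq_one (H12.isCharacter_irr χ) h
  haveI := hyp.simple
  have hker : f.ker = ⊤ := by
    rcases (inferInstance : f.ker.Normal).eq_bot_or_eq_top with h0 | h0
    · exfalso
      apply hyp.nonab
      refine ⟨⟨fun a b => (MonoidHom.ker_eq_bot_iff f).1 h0 ?_⟩⟩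
      rw [map_mul, map_mul, mul_comm]
    · exact h0
  funext g
  rw [← congrFun hf g]
  simp only [show f g = 1 from MonoidHom.mem_ker.1 (hker ▸ mem_top g), Units.val_one]

/-- The sum over `O = K P` split along `K` and `P`. -/
theorem finsum_split {O K P : Subgroup G} (hKO : K ≤ O) (hPO : P ≤ O)
    (hnorm : O ≤ normalizer (K : Set G)) (hsup : K ⊔ P = O)
    (hcop : (Nat.card K).Coprime (Nat.card P)) (f : G → ℂ) :
    ∑ᶠ w : O, f (w : G) = ∑ᶠ u : P, ∑ᶠ k : K, f ((k : G) * (u : G)) := by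
  classical
  haveI : Fintype O := Fintype.ofFinite _
  haveI : Fintype K := Fintype.ofFinite _
  haveI : Fintype P := Fintype.ofFinite _
  have hinf : K ⊓ P = ⊥ := disjoint_iff.1 (disjoint_of_coprime_natCard hcop)
  simp only [finsum_eq_sum_of_fintype]
  rw [← Fintype.sum_prod_type']
  symm
  refine Fintype.sum_bijective
    (fun x : P × K => (⟨(x.2 : G) * (x.1 : G), mul_mem (hKO x.2.2) (hPO x.1.2)⟩ : O)) ⟨?_, ?_⟩ _ _
    (fun _ => rfl)
  · rintro ⟨u, k⟩ ⟨u', k'⟩ h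
    have e : (k : G) * u = (k' : G) * u' := congrArg Subtype.val h
    have e' : (k' : G)⁻¹ * k = (u' : G) * (u : G)⁻¹ := by
      rw [eq_mul_inv_iff_mul_eq, mul_assoc, e, inv_mul_cancel_left]
    have hm : (k' : G)⁻¹ * k ∈ K ⊓ P :=
      Subgroup.mem_inf.2 ⟨mul_mem (inv_mem k'.2) k.2, e' ▸ mul_mem u'.2 (inv_mem u.2)⟩
    rw [hinf, mem_bot] at hm
    have hk : k' = k := Subtype.ext (inv_mul_eq_one.1 hm)
    subst hk
    exact Prod.ext (Subtype.ext (mul_left_cancel e)) rfl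
  · rintro ⟨w, hw⟩
    haveI : (K.subgroupOf O).Normal := Subgroup.normal_subgroupOf_iff_le_normalizer hKO |>.2 hnorm
    have htop : K.subgroupOf O ⊔ P.subgroupOf O = ⊤ := by
      rw [← subgroupOf_sup hKO hPO, hsup, subgroupOf_self]
    obtain ⟨k, hk, u, hu, e⟩ := mem_sup_of_normal_left.1 (htop ▸ mem_top (⟨w, hw⟩ : O))
    exact ⟨(⟨u, hu⟩, ⟨k, hk⟩), Subtype.ext (congrArg Subtype.val e)⟩

/-- The `p`-part of an element of `K u`. -/
theorem conj_pPart {p : ℕ} [Fact p.Prime] (P : Sylow p G) {O K : Subgroup G} (hKO : K ≤ O)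
    (hPO : (P : Subgroup G) ≤ O) (hnorm : O ≤ normalizer (K : Set G))
    (hsup : K ⊔ (P : Subgroup G) = O) (hcop : ¬ p ∣ Nat.card K)
    (hcomm : ∀ a ∈ (P : Subgroup G), ∀ b ∈ (P : Subgroup G), a * b = b * a)
    {k u : G} (hk : k ∈ K) (hu : u ∈ (P : Subgroup G)) :
    ∃ g ∈ O, g * H20.pPart p (k * u) * g⁻¹ = u := by
  classical
  haveI : Fintype G := Fintype.ofFinite _
  set w : O := ⟨k * u, mul_mem (hKO hk) (hPO hu)⟩ with hw
  set K' := K.subgroupOf O
  haveI : K'.Normal := Subgroup.normal_subgroupOf_iff_le_normalizer hKO |>.2 hnorm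
  set π := QuotientGroup.mk' K'
  have hπ : ∀ x : O, ∃ v : G, ∃ hv : v ∈ (P : Subgroup G), π x = π ⟨v, hPO hv⟩ := by
    intro x
    have htop : K' ⊔ (P : Subgroup G).subgroupOf O = ⊤ := by
      rw [← subgroupOf_sup hKO hPO, hsup, subgroupOf_self]
    obtain ⟨a, ha, v, hv, e⟩ := mem_sup_of_normal_left.1 (htop ▸ mem_top x)
    refine ⟨v, hv, ?_⟩
    rw [← e, map_mul, show π a = 1 from (QuotientGroup.eq_one_iff a).2 ha, one_mul]
  have hπc : ∀ x z : O, π x * π z = π z * π x := by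
    intro x z
    obtain ⟨v, hv, e⟩ := hπ x
    obtain ⟨v', hv', e'⟩ := hπ z
    rw [e, e', ← map_mul, ← map_mul]
    exact congrArg π (Subtype.ext (hcomm v hv v' hv'))
  have hwp : H20.pPart p (k * u) ∈ O :=
    (zpowers_le.2 w.2) (H20.mem_zpowers_pPart _)
  have hwq : H20.qPart p (k * u) ∈ O :=
    (zpowers_le.2 w.2) (H20.mem_zpowers_qPart _)
  have hq1 : π ⟨H20.qPart p (k * u), hwq⟩ = 1 := by
    obtain ⟨v, hv, e⟩ := hπ ⟨H20.qPart p (k * u), hwq⟩
    obtain ⟨i, hi⟩ := IsPGroup.iff_orderOf.1 P.isPGroup' ⟨v, hv⟩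
    have h1 : orderOf (π ⟨H20.qPart p (k * u), hwq⟩) ∣ p ^ i := by
      rw [e, ← hi]
      refine (orderOf_map_dvd π _).trans ?_
      rw [← Subgroup.orderOf_coe, ← Subgroup.orderOf_coe]
    have h2 : orderOf (π ⟨H20.qPart p (k * u), hwq⟩) ∣ orderOf (H20.qPart p (k * u)) := by
      refine (orderOf_map_dvd π _).trans ?_
      rw [← Subgroup.orderOf_coe]
    refine orderOf_eq_one_iff.1 (Nat.eq_one_of_dvd_coprimes ?_ h1 h2)
    exact Nat.Coprime.pow_left _ ((Fact.out : p.Prime).coprime_iff_not_dvd.2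
      (H20.not_dvd_orderOf_qPart _))
  have hp1 : π ⟨H20.pPart p (k * u), hwp⟩ = π ⟨u, hPO hu⟩ := by
    have e : (⟨H20.pPart p (k * u), hwp⟩ : O) * ⟨H20.qPart p (k * u), hwq⟩ =
        ⟨k, hKO hk⟩ * ⟨u, hPO hu⟩ := Subtype.ext (H20.pPart_mul_qPart _)
    have e' := congrArg π e
    rw [map_mul, map_mul, hq1, mul_one,
      show π ⟨k, hKO hk⟩ = 1 from (QuotientGroup.eq_one_iff _).2 hk, one_mul] at e'
    exact e'
  obtain ⟨j, hj⟩ := H20.exists_orderOf_pPart (p := p) (k * u)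
  obtain ⟨Q, hQ⟩ := (IsPGroup.of_card (n := j) (by
      rw [Nat.card_zpowers, ← Subgroup.orderOf_coe]; exact hj) :
    IsPGroup p (Subgroup.zpowers (⟨H20.pPart p (k * u), hwp⟩ : O))).exists_le_sylow
  obtain ⟨g, hg⟩ := MulAction.exists_smul_eq O Q (P.subtype hPO)
  have hmem : g * (⟨H20.pPart p (k * u), hwp⟩ : O) * g⁻¹ ∈ (P.subtype hPO : Subgroup O) := by
    rw [← hg, Sylow.coe_subgroup_smul, Subgroup.mem_pointwise_smul_iff_inv_smul_mem]
    simpa [MulAut.smul_def, mul_assoc] using hQ (Subgroup.mem_zpowers _)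
  have hmem' : (g : G) * H20.pPart p (k * u) * (g : G)⁻¹ ∈ (P : Subgroup G) := hmem
  refine ⟨g, g.2, ?_⟩
  have e : π (g * ⟨H20.pPart p (k * u), hwp⟩ * g⁻¹) = π ⟨u, hPO hu⟩ := by
    rw [map_mul, map_mul, hp1, hπc, mul_assoc, ← map_mul π g, mul_inv_cancel, map_one, mul_one]
  have hK : (g * ⟨H20.pPart p (k * u), hwp⟩ * g⁻¹)⁻¹ * ⟨u, hPO hu⟩ ∈ K' :=
    QuotientGroup.eq.1 e
  have hKP : ((g : G) * H20.pPart p (k * u) * (g : G)⁻¹)⁻¹ * u ∈ K ⊓ (P : Subgroup G) :=
    Subgroup.mem_inf.2 ⟨hK, mul_mem (inv_mem hmem') hu⟩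
  obtain ⟨i, hi⟩ := IsPGroup.iff_card.1 P.isPGroup'
  rw [disjoint_iff.1 (disjoint_of_coprime_natCard (hi ▸ Nat.Coprime.pow_right _
    ((Fact.out : p.Prime).coprime_iff_not_dvd.2 hcop).symm)), mem_bot, inv_mul_eq_one] at hKP
  exact hKP

set_option maxHeartbeats 1000000 in
theorem kleinKill (hQ : QuadStmt.{u}) (hM2 : MeanStmt.{u}) : KleinKillStmt.{u} := by
  intro G _ _ hyp D
  classical
  haveI : Fintype G := Fintype.ofFinite _
  haveI hp : Fact D.p.Prime := ⟨D.hp⟩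
  haveI : Fact (Nat.Prime 2) := ⟨Nat.prime_two⟩
  obtain ⟨M₂, hM₂⟩ := H22.exists_isPModular 2 Nat.prime_two
  obtain ⟨M, hM⟩ := H22.exists_isPModular D.p D.hp
  haveI := D.cyc
  have hcomm : ∀ a ∈ (D.P : Subgroup G), ∀ b ∈ (D.P : Subgroup G), a * b = b * a :=
    fun a ha b hb => congrArg Subtype.val
      ((IsCyclic.isMulCommutative (α := (D.P : Subgroup G))).is_comm.comm ⟨a, ha⟩ ⟨b, hb⟩)
  obtain ⟨k, hk⟩ := IsPGroup.iff_card.1 D.P.isPGroup'
  have hy1 : D.y ≠ 1 := fun h => by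
    have := D.y_ord
    rw [h, orderOf_one] at this
    exact D.hp.ne_one this.symm
  have hpP : D.p ∣ Nat.card (D.P : Subgroup G) := by
    have := orderOf_dvd_natCard (⟨D.y, D.y_mem⟩ : (D.P : Subgroup G))
    rwa [← Subgroup.orderOf_coe, D.y_ord] at this
  have hP7 : 7 ≤ Nat.card (D.P : Subgroup G) := D.hp7.trans (Nat.le_of_dvd Nat.card_pos hpP)
  have hPodd : Odd (Nat.card (D.P : Subgroup G)) := by
    rw [hk]; exact (D.hp.odd_of_ne_two D.hp2).pow
  have hKcop : (Nat.card D.K).Coprime (Nat.card (D.P : Subgroup G)) := by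
    rw [hk]; exact Nat.Coprime.pow_right _ ((D.hp.coprime_iff_not_dvd.2 D.K_coprime).symm)
  obtain ⟨Q, a, c, b, d, ha, hc, hb, hd, hbP, hdP, hne, heq⟩ :=
    hQ G D.p M hM D.hp2 D.P D.cyc D.relIndex_three hP7 D.t D.y D.t_ord D.one D.y_mem D.y_ord
      D.inv_zero
  obtain ⟨hzero, hshift⟩ := hM2 G M₂ hM₂ D.t ⟨1, by rw [D.t_ord, pow_one]⟩ D.O
    (centralizer ({D.t} : Set G)) D.O_le le_rfl D.O_norm le_normalizer D.O_odd
    ⟨2, D.O_index⟩ (fun g hg _ => hg)
  have htc : ∀ w ∈ D.O, Commute D.t w := fun w hw =>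
    (mem_centralizer_singleton_iff.1 (D.O_le hw)).symm
  have hpt : ∀ w ∈ D.O, ¬ D.p ∣ orderOf w → ¬ D.p ∣ orderOf (D.t * w) := by
    intro w hw hnd h
    have h' := h.trans ((htc w hw).orderOf_mul_dvd_mul_orderOf)
    rcases D.hp.dvd_mul.1 h' with h' | h'
    · rw [D.t_ord] at h'
      exact D.hp2 ((Nat.prime_dvd_prime_iff_eq D.hp Nat.prime_two).1 h')
    · exact hnd h'
  -- values on `t K u`
  have hX : ∀ u : (D.P : Subgroup G), u ≠ 1 → ∀ k ∈ D.K,
      (Q.X : G → ℂ) (D.t * (k * u)) = (Q.X : G → ℂ) u ∧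
        D.p ∣ orderOf (D.t * (k * (u : G))) := by
    intro u hu k hk
    obtain ⟨g, hgO, hg⟩ := conj_pPart D.P D.K_le D.P_le D.K_norm D.K_sup D.K_coprime hcomm hk u.2
    have hwO : k * (u : G) ∈ D.O := mul_mem (D.K_le hk) (D.P_le u.2)
    set v := g * H20.qPart D.p (k * (u : G)) * g⁻¹ with hv
    have hvO : v ∈ D.O := mul_mem (mul_mem hgO ((zpowers_le.2 hwO) (H20.mem_zpowers_qPart _)))
      (inv_mem hgO)
    have e : g * (D.t * (k * (u : G))) * g⁻¹ = (u : G) * (D.t * v) := by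
      have e1 : g * (D.t * (k * (u : G))) * g⁻¹ = D.t * (g * (k * (u : G)) * g⁻¹) := by
        rw [← mul_assoc, ← (htc g hgO).eq]; group
      have e2 : g * (k * (u : G)) * g⁻¹ = (u : G) * v := by
        calc g * (k * (u : G)) * g⁻¹
            = g * (H20.pPart D.p (k * (u : G)) * H20.qPart D.p (k * (u : G))) * g⁻¹ := by
              rw [H20.pPart_mul_qPart]
          _ = (g * H20.pPart D.p (k * (u : G)) * g⁻¹) * v := by rw [hv]; group
          _ = _ := by rw [hg]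
      rw [e1, e2, ← mul_assoc, (htc _ (D.P_le u.2)).eq, mul_assoc]
    have hcuv : Commute (u : G) v := by
      have h := (Commute.conj_iff g).2 (H20.commute_pPart_qPart (p := D.p) (k * (u : G)))
      rw [hg] at h
      exact h
    have hcu : Commute (u : G) (D.t * v) := ((htc _ (D.P_le u.2)).symm).mul_right hcuv
    have hv1 : ¬ D.p ∣ orderOf v := by
      rw [hv, show g * H20.qPart D.p (k * (u : G)) * g⁻¹ =
        MulAut.conj g (H20.qPart D.p (k * (u : G))) from rfl, MulEquiv.orderOf_eq]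
      exact H20.not_dvd_orderOf_qPart _
    have hreg := hpt v hvO hv1
    refine ⟨?_, ?_⟩
    · rw [← irr_conj Q.X g, e, Q.X_shift u hu _ hcu hreg]
    · have ho : D.p ∣ orderOf (u : G) := by
        obtain ⟨i, hi⟩ := IsPGroup.iff_orderOf.1 D.P.isPGroup' u
        rw [Subgroup.orderOf_coe, hi]
        refine dvd_pow_self _ fun h0 => hu ?_
        rw [← orderOf_eq_one_iff, hi, h0, pow_zero]
      obtain ⟨i, hi⟩ := IsPGroup.iff_orderOf.1 D.P.isPGroup' u
      have hcp : (orderOf (u : G)).Coprime (orderOf (D.t * v)) := by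
        rw [Subgroup.orderOf_coe, hi]
        exact Nat.Coprime.pow_left _ (D.hp.coprime_iff_not_dvd.2 hreg)
      rw [← MulEquiv.orderOf_eq (MulAut.conj g), MulAut.conj_apply, e,
        hcu.orderOf_mul_eq_mul_orderOf_of_coprime hcp]
      exact ho.trans (dvd_mul_right _ _)
  have hXnot : Q.X ∉ principalBlock M₂ G := by
    intro hmem
    obtain ⟨u, v, hu, hv, huv⟩ := Q.X_nonconst
    apply huv
    have e : ∀ w : (D.P : Subgroup G), w ≠ 1 → (Q.X : G → ℂ) w = (Q.X : G → ℂ) D.t := by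
      intro w hw
      rw [← (hX w hw 1 (one_mem _)).1, one_mul, hshift Q.X hmem _ (D.P_le w.2)]
    rw [e u hu, e v hv]
  -- the sums over `K`
  set nK : ℂ := (Nat.card D.K : ℂ) with hnK
  set nP : ℂ := (Nat.card (D.P : Subgroup G) : ℂ) with hnP
  have hsplit : ∀ (χ : IrrCharacter G) (e : ↥(D.P : Subgroup G) → ℂ),
      (∀ u : (D.P : Subgroup G), u ≠ 1 → ∀ k ∈ D.K, (χ : G → ℂ) (D.t * (k * (u : G))) = e u) →
      ∑ᶠ w : D.O, (χ : G → ℂ) (D.t * (w : G)) = (∑ᶠ k : D.K, (χ : G → ℂ) (D.t * (k : G))) +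
        nK * ((∑ᶠ u : (D.P : Subgroup G), e u) - e 1) := by
    intro χ e he
    rw [finsum_split D.K_le D.P_le D.K_norm D.K_sup hKcop (fun g => (χ : G → ℂ) (D.t * g))]
    simp only [finsum_eq_sum_of_fintype]
    rw [← Finset.add_sum_erase _ _ (Finset.mem_univ (1 : (D.P : Subgroup G))),
      ← Finset.add_sum_erase _ e (Finset.mem_univ (1 : (D.P : Subgroup G))), add_sub_cancel_left,
      Finset.mul_sum]
    congr 1
    · refine Finset.sum_congr rfl fun k _ => ?_
      rw [OneMemClass.coe_one, mul_one]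
    · refine Finset.sum_congr rfl fun u hu => ?_
      rw [Finset.sum_congr rfl fun (k : D.K) _ => he u (Finset.ne_of_mem_erase hu) (k : G) k.2,
        Finset.sum_const, Finset.card_univ, nsmul_eq_mul, hnK, Nat.card_eq_fintype_card]
  set SX := ∑ᶠ k : D.K, (Q.X : G → ℂ) (D.t * (k : G)) with hSX
  set SL := ∑ᶠ k : D.K, (Q.lam : G → ℂ) (D.t * (k : G)) with hSL
  set SM := ∑ᶠ k : D.K, (Q.mu : G → ℂ) (D.t * (k : G)) with hSM
  have hεε : (Q.ε : ℂ) * Q.ε = 1 := by rcases Q.ε_eq with h | h <;> rw [h] <;> norm_num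
  have hδδ : (Q.δ : ℂ) * Q.δ = 1 := by rcases Q.δ_eq with h | h <;> rw [h] <;> norm_num
  have hδδ' : (Q.δ' : ℂ) * Q.δ' = 1 := by rcases Q.δ'_eq with h | h <;> rw [h] <;> norm_num
  have hE : (Q.ε : ℂ) * SX = 3 * nK := by
    have h := hzero Q.X hXnot
    rw [hsplit Q.X (fun u => (Q.X : G → ℂ) u) (fun u hu k hk => (hX u hu k hk).1), Q.X_sum,
      OneMemClass.coe_one] at h
    linear_combination (Q.ε : ℂ) * h + 3 * nK * hεε
  have hrel : nK + (Q.δ : ℂ) * SL + (Q.δ' : ℂ) * SM = (Q.ε : ℂ) * SX := by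
    rw [hSX, hSL, hSM, hnK, finsum_eq_sum_of_fintype, finsum_eq_sum_of_fintype,
      finsum_eq_sum_of_fintype, Finset.mul_sum, Finset.mul_sum, Finset.mul_sum,
      Nat.card_eq_fintype_card, Finset.card_univ.symm, Finset.cast_card, ← Finset.sum_add_distrib,
      ← Finset.sum_add_distrib]
    refine Finset.sum_congr rfl fun k _ => ?_
    refine Q.rel _ (hpt k (D.K_le k.2) fun h => D.K_coprime ?_)
    rw [Subgroup.orderOf_coe] at h
    exact h.trans (orderOf_dvd_natCard k)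
  -- each of `λ`, `μ` is in the principal 2-block
  have hlin : ∀ (χ : IrrCharacter G) (δ : ℤ), (δ : ℂ) * δ = 1 →
      (∀ g : G, D.p ∣ orderOf g → (χ : G → ℂ) g = (δ : ℂ)) →
      (χ ∈ principalBlock M₂ G → (χ : G → ℂ) D.t = δ) ∧
      ((δ : ℂ) * (∑ᶠ k : D.K, (χ : G → ℂ) (D.t * (k : G))) =
        if χ ∈ principalBlock M₂ G then nK else -(nK * (nP - 1))) := by
    intro χ δ hδ hsing
    have hin : χ ∈ principalBlock M₂ G → (χ : G → ℂ) D.t = δ := by
      intro hmem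
      have hy : (⟨D.y, D.y_mem⟩ : (D.P : Subgroup G)) ≠ 1 := fun h => hy1 (congrArg Subtype.val h)
      have h := (hX _ hy 1 (one_mem _)).2
      rw [one_mul] at h
      rw [← hshift χ hmem D.y (D.P_le D.y_mem), hsing _ h]
    refine ⟨hin, ?_⟩
    split_ifs with hmem
    · rw [finsum_eq_sum_of_fintype, Finset.sum_congr rfl fun (k : D.K) _ =>
        (hshift χ hmem _ (D.K_le k.2)).trans (hin hmem), Finset.sum_const, Finset.card_univ,
        nsmul_eq_mul, hnK, Nat.card_eq_fintype_card]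
      linear_combination (Fintype.card D.K : ℂ) * hδ
    · have h := hzero χ hmem
      rw [hsplit χ (fun _ => (δ : ℂ)) (fun u hu k hk => hsing _ (hX u hu k hk).2)] at h
      rw [finsum_eq_sum_of_fintype (f := fun _ : (D.P : Subgroup G) => (δ : ℂ)),
        Finset.sum_const, Finset.card_univ, nsmul_eq_mul, ← Nat.card_eq_fintype_card] at h
      linear_combination (δ : ℂ) * h - nK * (nP - 1) * hδ
  obtain ⟨hl1, hl2⟩ := hlin Q.lam Q.δ hδδ Q.lam_sing
  obtain ⟨hm1, hm2⟩ := hlin Q.mu Q.δ' hδδ' Q.mu_sing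
  rw [← hSL] at hl2
  rw [← hSM] at hm2
  have hnK0 : nK ≠ 0 := Nat.cast_ne_zero.2 Nat.card_pos.ne'
  have hboth : Q.lam ∈ principalBlock M₂ G ∧ Q.mu ∈ principalBlock M₂ G := by
    have key : ∀ n : ℕ, (nK * (n : ℂ) = 0) → n = 0 := fun n h => by
      rcases mul_eq_zero.1 h with h | h
      · exact absurd h hnK0
      · exact_mod_cast h
    split_ifs at hl2 hm2 with h1 h2 h2
    · exact ⟨h1, h2⟩
    · exfalso
      have := key (Nat.card (D.P : Subgroup G)) (by
        push_cast; rw [← hnP]; linear_combination -hrel - hE + hl2 + hm2)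
      omega
    · exfalso
      have := key (Nat.card (D.P : Subgroup G)) (by
        push_cast; rw [← hnP]; linear_combination -hrel - hE + hl2 + hm2)
      omega
    · exfalso
      have := key (2 * Nat.card (D.P : Subgroup G)) (by
        push_cast; rw [← hnP]; linear_combination -hrel - hE + hl2 + hm2)
      omega
  have ha1 : a = 1 := by
    rw [hl1 hboth.1, hδδ] at ha; exact_mod_cast ha.symm
  have hc1 : c = 1 := by
    rw [hm1 hboth.2, hδδ'] at hc; exact_mod_cast hc.symm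
  subst ha1 hc1
  -- parity and triviality
  have hdeg : ∀ (χ : IrrCharacter G) (δ b : ℤ), (δ = 1 ∨ δ = -1) → (χ : G → ℂ) ≠ (fun _ => 1) →
      (χ : G → ℂ) D.t = δ → b = δ * (charDegree (χ : G → ℂ) : ℤ) → (2 : ℤ) ∣ b - 1 ∧ b ≠ 1 := by
    intro χ δ b hδ hne ht hb
    constructor
    · obtain ⟨m, hm⟩ := dvd_sum_zpowers χ D.t
      rw [D.t_ord, Finset.sum_range_succ, Finset.sum_range_one, pow_zero, pow_one, ht,
        irr_one_eq_deg] at hm
      have e : (charDegree (χ : G → ℂ) : ℤ) + δ = (2 : ℤ) * m := by exact_mod_cast hm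
      rcases hδ with h | h <;> subst h <;> omega
    · intro h1
      apply hne
      refine eq_oneIrr_of_deg_one hyp χ ?_
      rw [irr_one_eq_deg]
      have : (charDegree (χ : G → ℂ) : ℤ) = 1 := by rcases hδ with h | h <;> subst h <;> omega
      rw [this, Int.cast_one]
  obtain ⟨hb2, hb1⟩ := hdeg Q.lam Q.δ b Q.δ_eq Q.nontriv.1 (hl1 hboth.1) hb
  obtain ⟨hd2, hd1⟩ := hdeg Q.mu Q.δ' d Q.δ'_eq Q.nontriv.2.1 (hm1 hboth.2) hd
  have h2P : ∀ x : ℤ, (2 : ℤ) ∣ x → (Nat.card (D.P : Subgroup G) : ℤ) ∣ x →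
      2 * (Nat.card (D.P : Subgroup G) : ℤ) ∣ x := fun x h h' => by
    refine (Int.isCoprime_iff_gcd_eq_one.2 ?_).mul_dvd h h'
    rw [show (2 : ℤ) = ((2 : ℕ) : ℤ) from rfl, Int.gcd_natCast_natCast]
    exact Nat.coprime_two_left.2 hPodd
  refine klein_arith (P := (Nat.card (D.P : Subgroup G) : ℤ)) (by exact_mod_cast hP7)
    (h2P _ hb2 hbP) (h2P _ hd2 hdP) hb1 hd1 ?_
  have hb0 : (b : ℚ) ≠ 0 := by
    intro h0
    have : b = 0 := by exact_mod_cast h0
    omega
  have hd0 : (d : ℚ) ≠ 0 := by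
    intro h0
    have : d = 0 := by exact_mod_cast h0
    omega
  have hne' : (1 : ℚ) + b + d ≠ 0 := by exact_mod_cast hne
  push_cast at heq
  field_simp at heq
  have e : (((b * d + b + d) * (1 + b + d) : ℤ) : ℚ) = ((9 * (b * d) : ℤ) : ℚ) := by
    push_cast; linear_combination heq
  exact_mod_cast e

end H76.CSy
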