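import Cfsg.Agent.H76.CSy.Defs
import Cfsg.Agent.H68.PSU34
import Cfsg.Agent.S0516

/-!
The simple case of S4069 from the dihedral and semidihedral cases.
-/

set_option autoImplicit false
set_option linter.style.haveILetI false

open Cfsg Subgroup

namespace H76.CSy

universe u

theorem eq_of_mem_cyclic {A : Type*} [Group A] [Finite A] (C : Subgroup A) [IsCyclic C] {a b : A}
    (ha : a ∈ C) (hb : b ∈ C) (ha2 : a * a = 1) (hb2 : b * b = 1) (ha1 : a ≠ 1) (hb1 : b ≠ 1) :
    a = b := by
  classical
  haveI : Fintype C := Fintype.ofFinite _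
  have h := IsCyclic.card_pow_eq_one_le (α := C) (n := 2) two_pos
  by_contra hne
  have h3 : ({1, ⟨a, ha⟩, ⟨b, hb⟩} : Finset C) ⊆
      (Finset.univ.filter fun x : C => x ^ 2 = 1) := by
    intro x hx
    simp only [Finset.mem_insert, Finset.mem_singleton] at hx
    simp only [Finset.mem_filter, Finset.mem_univ, true_and, pow_two]
    rcases hx with rfl | rfl | rfl
    · exact one_mul 1
    · exact Subtype.ext ha2
    · exact Subtype.ext hb2
  have := (Finset.card_le_card h3).trans h
  rw [Finset.card_insert_of_notMem, Finset.card_insert_of_notMem, Finset.card_singleton] at this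
  · omega
  · simp only [Finset.mem_singleton]; exact fun e => hne (congrArg Subtype.val e)
  · simp only [Finset.mem_insert, Finset.mem_singleton]
    rintro (e | e)
    · exact ha1 (congrArg Subtype.val e).symm
    · exact hb1 (congrArg Subtype.val e).symm

/-- A cyclic subgroup of index at most two contains every square. -/
theorem mul_self_mem_of_index {A : Type*} [Group A] {C : Subgroup A} (h : C.index ∣ 2) (a : A) :
    a * a ∈ C := by
  rcases (Nat.dvd_prime Nat.prime_two).1 h with h | h
  · rw [index_eq_one.1 h]; trivial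
  · exact (mul_mem_iff_of_index_two h).2 Iff.rfl

theorem slim_rank {A : Type*} [Group A] [Finite A]
    (h : ∃ C : Subgroup A, IsCyclic C ∧ C.index ∣ 2) (B : Subgroup A)
    (hB : ∀ b ∈ B, b * b = 1) : Nat.card B ≤ 4 := by
  classical
  obtain ⟨C, hC, hi⟩ := h
  haveI := hC
  have h1 : Nat.card (C.subgroupOf B) ≤ 2 := by
    by_contra hgt
    haveI : Fintype (C.subgroupOf B) := Fintype.ofFinite _
    rw [Nat.card_eq_fintype_card, not_le, ← Finset.card_univ] at hgt
    obtain ⟨a, -, b, -, c, -, hab, hac, hbc⟩ := Finset.two_lt_card.1 hgt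
    have key : ∀ u v : C.subgroupOf B, u ≠ 1 → v ≠ 1 → u = v := fun u v hu hv =>
      Subtype.ext (Subtype.ext (eq_of_mem_cyclic C u.2 v.2 (hB _ u.1.2) (hB _ v.1.2)
        (fun e => hu (Subtype.ext (Subtype.ext e))) (fun e => hv (Subtype.ext (Subtype.ext e)))))
    by_cases ha : a = 1
    · exact hbc (key b c (fun e => hab (ha.trans e.symm)) (fun e => hac (ha.trans e.symm)))
    by_cases hb : b = 1
    · exact hac (key a c ha (fun e => hbc (hb.trans e.symm)))
    exact hab (key a b ha hb)
  have h2 : (C.subgroupOf B).index ≤ 2 := by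
    have hle : C.relIndex B ≤ C.index := by
      rw [← relIndex_top_right]
      exact relIndex_le_of_le_right le_top
        (by rw [relIndex_top_right]; exact index_ne_zero_of_finite)
    exact hle.trans (Nat.le_of_dvd two_pos hi)
  calc Nat.card B = (C.subgroupOf B).index * Nat.card (C.subgroupOf B) :=
        ((C.subgroupOf B).index_mul_card).symm
    _ ≤ 2 * 2 := Nat.mul_le_mul h2 h1

variable {G : Type u} [Group G] [Finite G]

theorem slim_prank (h : TwoSlim G) : PRankLE 2 2 G := by
  intro A hA hA2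
  haveI : Fact (Nat.Prime 2) := ⟨Nat.prime_two⟩
  have hp : IsPGroup 2 A := fun a => ⟨1, Subtype.ext (by simpa using hA2 a a.2)⟩
  obtain ⟨S, hS⟩ := hp.exists_le_sylow
  rw [← Nat.card_congr (subgroupOfEquivOfLe hS).toEquiv]
  refine slim_rank (h S) (A.subgroupOf (S : Subgroup G)) fun b hb => Subtype.ext ?_
  have := hA2 b hb
  rwa [pow_two] at this

theorem simpleCase (hD : DihedralStmt.{u}) (hS : SemiStmt.{u}) (hDK : DihKillStmt.{u})
    (hKK : KleinKillStmt.{u}) (hTK : TorusKillStmt.{u}) (hCK : CoreKillStmt.{u})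
    (G : Type u) [Group G] [Finite G] (hyp : Hyp G) : SimpleGoal G := by
  classical
  haveI : Fact (Nat.Prime 2) := ⟨Nat.prime_two⟩
  haveI := hyp.simple
  haveI : Fintype (GaloisField 2 4) := Fintype.ofFinite _
  have hF : Fintype.card (GaloisField 2 4) = 16 := by
    rw [← Nat.card_eq_fintype_card, GaloisField.card 2 4 (by norm_num)]; norm_num
  let P : Sylow 2 (Cfsg.PSU 3 (GaloisField 2 4) 4) := default
  let S : Sylow 2 G := default
  obtain ⟨C, hC, hi⟩ := hyp.slim S
  haveI := hC
  rcases Cfsg.Agent.S0516.result hyp.nonab (slim_prank hyp.slim) S hF P with h | h | h | h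
  · exact hD G hyp S h (hDK G hyp) (hKK G hyp)
  · exact (hS G hyp S h (hTK G hyp) (hCK G hyp)).elim
  · exfalso
    obtain ⟨n, hn, -, x, y, z, hx, hxy, hdisj, hz, hzx⟩ := h
    have hy : orderOf y = 2 ^ n := by
      rw [← hzx, show z * x * z⁻¹ = MulAut.conj z x from rfl, MulEquiv.orderOf_eq, hx]
    obtain ⟨m, rfl⟩ := Nat.exists_eq_add_of_le hn
    have key : ∀ w : (S : Subgroup G), orderOf w = 2 ^ (2 + m) →
        w ^ 2 ^ (1 + m) ∈ C ∧ w ^ 2 ^ (1 + m) * w ^ 2 ^ (1 + m) = 1 ∧ w ^ 2 ^ (1 + m) ≠ 1 := by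
      intro w hw
      refine ⟨?_, ?_, ?_⟩
      · rw [show 2 ^ (1 + m) = 2 * 2 ^ m by ring, pow_mul, pow_two]
        exact pow_mem (mul_self_mem_of_index hi w) _
      · rw [← pow_add, ← two_mul, ← pow_succ', show 1 + m + 1 = 2 + m by ring, ← hw,
          pow_orderOf_eq_one]
      · refine pow_ne_one_of_lt_orderOf (by positivity) ?_
        rw [hw]
        exact Nat.pow_lt_pow_right (by norm_num) (by omega)
    obtain ⟨x1, x2, x3⟩ := key x hx
    obtain ⟨y1, y2, y3⟩ := key y hy
    have e := eq_of_mem_cyclic C x1 y1 x2 y2 x3 y3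
    have hm : x ^ 2 ^ (1 + m) ∈ zpowers x ⊓ zpowers y :=
      Subgroup.mem_inf.2 ⟨pow_mem (mem_zpowers x) _, e ▸ pow_mem (mem_zpowers y) _⟩
    rw [hdisj, mem_bot] at hm
    exact x3 hm
  · exfalso
    obtain ⟨e⟩ := h
    obtain ⟨hcard, c, hc⟩ := H68.PSU34.exists_coords hF P
    obtain ⟨hklein, -, -, hq, hexp⟩ := H68.PSU34.structure_sylow hF c hc
    have hSc : Nat.card (S : Subgroup G) = 64 := by rw [Nat.card_congr e.toEquiv, hcard]
    obtain ⟨g, hg⟩ := IsCyclic.exists_generator (α := C)
    have hg4 : orderOf (g : (S : Subgroup G)) ∣ 4 := by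
      apply orderOf_dvd_of_pow_eq_one
      have hmem : (e g) ^ 2 ∈ Subgroup.center (P : Subgroup (Cfsg.PSU 3 (GaloisField 2 4) 4)) := by
        rw [← QuotientGroup.eq_one_iff, QuotientGroup.mk_pow]
        exact hexp _
      have h22 : ((e g) ^ 2) * ((e g) ^ 2) = 1 := by
        haveI := hklein
        exact congrArg Subtype.val
          (IsKleinFour.mul_self (⟨(e g) ^ 2, hmem⟩ :
            Subgroup.center (P : Subgroup (Cfsg.PSU 3 (GaloisField 2 4) 4))))
      apply e.injective
      rw [map_pow, map_one]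
      exact (pow_add (e g) 2 2).trans h22
    have hCcard : Nat.card C ≤ 4 := by
      rw [← orderOf_eq_card_of_forall_mem_zpowers hg, ← Subgroup.orderOf_coe]
      exact Nat.le_of_dvd (by norm_num) hg4
    have := C.card_mul_index
    rw [hSc] at this
    have := Nat.le_of_dvd two_pos hi
    nlinarith

end H76.CSy
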