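import Cfsg.Agent.H76.CSy.PSL
import Cfsg.Agent.H76.CSy.DihKill
import Cfsg.Agent.H76.CSy.KleinKill
import Cfsg.Agent.H76.CSy.SimpleCase
import Cfsg.Agent.H4.CSy.PBlock
import Cfsg.Agent.H12.CSy.TwoBlock
import Cfsg.Agent.H23.CSy.Reduce
import Cfsg.Agent.H75.CSy.Dihedral
import Cfsg.Agent.H61.CSy.Kills
import Cfsg.Agent.H17.CSy.CoreKill
import Cfsg.Agent.H70.CSy.SemiOf

/-!
Assembly of S4069 from its modules.
-/

set_option autoImplicit false

open Cfsg Subgroup

namespace H76.CSy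

universe u

theorem main_of (hCore : H70.CSy.CoreStmt.{u}) (hModel : H70.CSy.ModelStmt.{u})
    (G : Type u) [Group G] [Finite G] (hns : ¬ Group.IsSolvable G) (ho : OddCyclic G)
    (hs : TwoSlim G) : Concl G :=
  H23.CSy.reduce
    (fun K _ _ hK => simpleCase
      (H75.CSy.dihedral pslPick pslOuter)
      (H70.CSy.semi_of hCore hModel)
      (dihKill H4.CSy.triple H4.CSy.count H12.CSy.rank H12.CSy.orbit)
      (kleinKill H4.CSy.quad H12.CSy.mean)
      (H61.CSy.torusKill H4.CSy.triple H4.CSy.count H12.CSy.rank H12.CSy.orbit H12.CSy.borelMean)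
      (H17.CSy.coreKill H4.CSy.triple H4.CSy.count H12.CSy.mean H12.CSy.rank H12.CSy.orbit)
      K hK)
    G hns ho hs

end H76.CSy
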